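import Cfsg.Agent.Fusion.CentralPair.Split
import Cfsg.Agent.Fusion.DirectProduct
import Cfsg.Agent.Fusion.ProductSaturated
import Cfsg.Agent.Fusion.CenterControl
import Cfsg.Agent.Fusion.Factor

/-!
The maps of a central product, read inside the ambient group.
-/

set_option autoImplicit false
set_option linter.unusedSectionVars false
set_option linter.style.haveILetI false

namespace Cfsg.Lib.Fusion.CPair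

open Cfsg Cfsg.FusionSystem Cfsg.Lib.Fusion

universe u

variable {Ω : Type u} [Group Ω] {S T₁ T₂ : Subgroup Ω} {F : FusionSystem S}
  {E₁ : FusionSystem T₁} {E₂ : FusionSystem T₂}

/-- The map splits along the projections. -/
def Splits (E₁ : FusionSystem T₁) (E₂ : FusionSystem T₂) (P : Subgroup Ω) (f : Ω → Ω) : Prop :=
  ∃ f₁ f₂, IsMap E₁ (prj T₁ T₂ P) f₁ ∧ IsMap E₂ (prj T₂ T₁ P) f₂ ∧
    ∀ a ∈ prj T₁ T₂ P, ∀ b ∈ prj T₂ T₁ P, a * b ∈ P → f (a * b) = f₁ a * f₂ b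

theorem Splits.congr {P : Subgroup Ω} {f f' : Ω → Ω} (h : Splits E₁ E₂ P f)
    (e : ∀ x ∈ P, f' x = f x) : Splits E₁ E₂ P f' :=
  let ⟨f₁, f₂, h₁, h₂, hs⟩ := h
  ⟨f₁, f₂, h₁, h₂, fun a ha b hb hab => (e _ hab).trans (hs a ha b hb hab)⟩

section Product

variable (hc : Comm F T₁ T₂) {θ : ↥(T₁.prod T₂) →* Ω}
  (hθ₁ : ∀ (x : Ω) (hx : ((x, 1) : Ω × Ω) ∈ T₁.prod T₂), θ ⟨(x, 1), hx⟩ = x)
  (hθ₂ : ∀ (y : Ω) (hy : ((1, y) : Ω × Ω) ∈ T₁.prod T₂), θ ⟨(1, y), hy⟩ = y)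

include hθ₁ hθ₂

theorem qmap_pair {x : Ω × Ω} (hx : x ∈ T₁.prod T₂) : qmap θ x = x.1 * x.2 := by
  obtain ⟨a, b⟩ := x
  have ha : ((a, 1) : Ω × Ω) ∈ T₁.prod T₂ := ⟨hx.1, T₂.one_mem⟩
  have hb : ((1, b) : Ω × Ω) ∈ T₁.prod T₂ := ⟨T₁.one_mem, hx.2⟩
  rw [qmap_apply hx, show (⟨(a, b), hx⟩ : ↥(T₁.prod T₂)) = ⟨(a, 1), ha⟩ * ⟨(1, b), hb⟩ from
    Subtype.ext (Prod.ext (mul_one a).symm (one_mul b).symm), map_mul, hθ₁ a ha, hθ₂ b hb]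

theorem range_pair : θ.range = T₁ ⊔ T₂ := by
  refine le_antisymm ?_ (sup_le (fun a ha => ⟨_, hθ₁ a ⟨ha, T₂.one_mem⟩⟩)
    fun b hb => ⟨_, hθ₂ b ⟨T₁.one_mem, hb⟩⟩)
  rintro _ ⟨⟨x, hx⟩, rfl⟩
  rw [← qmap_apply hx, qmap_pair hθ₁ hθ₂ hx]
  exact Subgroup.mul_mem _ (Subgroup.mem_sup_left hx.1) (Subgroup.mem_sup_right hx.2)

theorem mem_pre_pair {P : Subgroup Ω} {x : Ω × Ω} :
    x ∈ preimageAlong θ P ↔ x ∈ T₁.prod T₂ ∧ x.1 * x.2 ∈ P := by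
  rw [mem_preimageAlong]
  exact and_congr_right fun hx => by rw [qmap_pair hθ₁ hθ₂ hx]

include hc

theorem map_fst_pre {P : Subgroup Ω} (hP : P ≤ T₁ ⊔ T₂) :
    (preimageAlong θ P).map (MonoidHom.fst Ω Ω) = prj T₁ T₂ P := by
  ext a
  rw [hc.mem_prj hP]
  constructor
  · rintro ⟨x, hx, rfl⟩
    obtain ⟨hxT, hxP⟩ := (mem_pre_pair hθ₁ hθ₂).mp hx
    exact ⟨hxT.1, x.2, hxT.2, hxP⟩
  · rintro ⟨ha, b, hb, hab⟩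
    exact ⟨(a, b), (mem_pre_pair hθ₁ hθ₂).mpr ⟨⟨ha, hb⟩, hab⟩, rfl⟩

theorem map_snd_pre {P : Subgroup Ω} (hP : P ≤ T₁ ⊔ T₂) :
    (preimageAlong θ P).map (MonoidHom.snd Ω Ω) = prj T₂ T₁ P := by
  ext b
  rw [hc.symm.mem_prj (hP.trans (sup_comm T₁ T₂).le)]
  constructor
  · rintro ⟨x, hx, rfl⟩
    obtain ⟨hxT, hxP⟩ := (mem_pre_pair hθ₁ hθ₂).mp hx
    exact ⟨hxT.2, x.1, hxT.1, hc.comm x.1 hxT.1 x.2 hxT.2 ▸ hxP⟩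
  · rintro ⟨hb, a, ha, hab⟩
    exact ⟨(a, b), (mem_pre_pair hθ₁ hθ₂).mpr ⟨⟨ha, hb⟩, (hc.comm a ha b hb).symm ▸ hab⟩, rfl⟩

/-- Splitting maps are exactly those induced by maps of the product. -/
theorem splits_iff {D₀ : FusionSystem (T₁.prod T₂)} (hD₀ : IsProductSystem E₁ E₂ D₀)
    {P : Subgroup Ω} (hP : P ≤ T₁ ⊔ T₂) {f : Ω → Ω} :
    Splits E₁ E₂ P f ↔ ∃ g, IsMap D₀ (preimageAlong θ P) g ∧
      ∀ x ∈ preimageAlong θ P, f (qmap θ x) = qmap θ (g x) := by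
  constructor
  · rintro ⟨f₁, f₂, h₁, h₂, hs⟩
    refine ⟨fun x => (f₁ x.1, f₂ x.2), (isMap_product_iff hD₀).mpr ⟨preimageAlong_le _, f₁, f₂,
      by rw [map_fst_pre hc hθ₁ hθ₂ hP]; exact h₁, by rw [map_snd_pre hc hθ₁ hθ₂ hP]; exact h₂,
      fun _ _ => rfl⟩, fun x hx => ?_⟩
    obtain ⟨hxT, hxP⟩ := (mem_pre_pair hθ₁ hθ₂).mp hx
    have ha : x.1 ∈ prj T₁ T₂ P := (hc.mem_prj hP).mpr ⟨hxT.1, x.2, hxT.2, hxP⟩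
    have hb : x.2 ∈ prj T₂ T₁ P := (hc.symm.mem_prj (hP.trans (sup_comm T₁ T₂).le)).mpr
      ⟨hxT.2, x.1, hxT.1, hc.comm x.1 hxT.1 x.2 hxT.2 ▸ hxP⟩
    have hm : ((f₁ x.1, f₂ x.2) : Ω × Ω) ∈ T₁.prod T₂ := ⟨h₁.mem_S ha, h₂.mem_S hb⟩
    rw [qmap_pair hθ₁ hθ₂ hxT, hs _ ha _ hb hxP, qmap_pair hθ₁ hθ₂ hm]
  · rintro ⟨g, hg, hgf⟩
    obtain ⟨-, f₁, f₂, h₁, h₂, hs⟩ := (isMap_product_iff hD₀).mp hg
    rw [map_fst_pre hc hθ₁ hθ₂ hP] at h₁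
    rw [map_snd_pre hc hθ₁ hθ₂ hP] at h₂
    refine ⟨f₁, f₂, h₁, h₂, fun a ha b hb hab => ?_⟩
    have hT : ((a, b) : Ω × Ω) ∈ T₁.prod T₂ := ⟨prj_le ha, prj_le hb⟩
    have hx := (mem_pre_pair hθ₁ hθ₂ (x := (a, b))).mpr ⟨hT, hab⟩
    have h1 := hgf _ hx
    rw [hs _ hx, qmap_pair hθ₁ hθ₂ hT,
      qmap_pair hθ₁ hθ₂ (⟨h₁.mem_S ha, h₂.mem_S hb⟩ : ((f₁ a, f₂ b) : Ω × Ω) ∈ T₁.prod T₂)] at h1
    exact h1

end Product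

theorem stronglyClosed_of_le_center {Ω' : Type*} [Group Ω'] {S' : Subgroup Ω'} [Finite S']
    {G : FusionSystem S'} {Z : Subgroup Ω'} (hZ : Z ≤ G.center) : G.StronglyClosed Z :=
  stronglyClosed_of_apply (hZ.trans isCentral_center.1) fun P f hf x hx hxZ => by
    rw [apply_of_mem_center (hZ hxZ) hf hx]
    exact hxZ

/-- The maps of a central product. -/
theorem isMap_of_centralProduct [Finite S] (hc : Comm F T₁ T₂) {T : Subgroup Ω}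
    {D : FusionSystem T} (hD : IsCentralProductOf E₁ E₂ D) :
    T = T₁ ⊔ T₂ ∧ ∀ (P : Subgroup Ω) (f : Ω → Ω),
      IsMap D P f ↔ P ≤ T₁ ⊔ T₂ ∧ Splits E₁ E₂ P f := by
  obtain ⟨D₀, hD₀, Z, θ, hZ, -, -, hθ₁, hθ₂, hfac⟩ := hD
  haveI := finite_of_le hc.sc₁.1
  haveI := finite_of_le hc.sc₂.1
  haveI : Finite (T₁.prod T₂) := Finite.of_equiv _ (Subgroup.prodEquiv T₁ T₂).symm.toEquiv
  have hT : T = T₁ ⊔ T₂ := hfac.2.2.1.symm.trans (range_pair hθ₁ hθ₂)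
  have hq := isQuot_of_isFactorSystem (stronglyClosed_of_le_center hZ) hfac
  refine ⟨hT, fun P f => (hq.iff P f).trans ?_⟩
  rw [hT]
  exact and_congr_right fun hP => (splits_iff hc hθ₁ hθ₂ hD₀ hP).symm

/-- The centre of the intersection in a central product. -/
theorem inf_le_center_of_centralProduct [Finite S] (hc : Comm F T₁ T₂) {T : Subgroup Ω}
    {D : FusionSystem T} (hD : IsCentralProductOf E₁ E₂ D) : T₁ ⊓ T₂ ≤ E₁.center := by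
  obtain ⟨D₀, hD₀, Z, θ, hZ, -, -, hθ₁, hθ₂, hfac⟩ := hD
  haveI := finite_of_le hc.sc₁.1
  haveI := finite_of_le hc.sc₂.1
  haveI : Finite (T₁.prod T₂) := Finite.of_equiv _ (Subgroup.prodEquiv T₁ T₂).symm.toEquiv
  have hmem : ∀ z ∈ T₁ ⊓ T₂, ((z, z⁻¹) : Ω × Ω) ∈ Z := fun z hz => by
    have hT : ((z, z⁻¹) : Ω × Ω) ∈ T₁.prod T₂ := ⟨hz.1, T₂.inv_mem hz.2⟩
    refine (hfac.2.1 ⟨_, hT⟩).mp ?_
    rw [← qmap_apply hT, qmap_pair hθ₁ hθ₂ hT, mul_inv_cancel]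
  refine le_sSup (show T₁ ⊓ T₂ ∈ {Q | E₁.IsCentral Q} from
    isCentral_iff.mpr ⟨inf_le_left, fun P f hf => ?_⟩)
  set P₀ : Subgroup (Ω × Ω) := P.prod ⊥
  have hfst : P₀.map (MonoidHom.fst Ω Ω) = P := by
    ext a
    exact ⟨fun ⟨x, hx, e⟩ => e ▸ hx.1, fun ha => ⟨(a, 1), ⟨ha, Subgroup.one_mem _⟩, rfl⟩⟩
  have hsnd : P₀.map (MonoidHom.snd Ω Ω) ≤ T₂ := by
    rintro _ ⟨x, hx, rfl⟩
    rw [show MonoidHom.snd Ω Ω x = 1 from Subgroup.mem_bot.mp hx.2]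
    exact T₂.one_mem
  have hm : IsMap D₀ P₀ (fun x => (f x.1, x.2)) := (isMap_product_iff hD₀).mpr
    ⟨fun x hx => ⟨hf.le hx.1, by rw [Subgroup.mem_bot.mp hx.2]; exact T₂.one_mem⟩, f, id,
      hfst.symm ▸ hf, isMap_id hsnd, fun _ _ => rfl⟩
  obtain ⟨k, hk, hkf, hkZ⟩ := (isCentral_iff.mp isCentral_center).2 _ _ hm
  obtain ⟨-, k₁, k₂, hk₁, -, hs⟩ := (isMap_product_iff hD₀).mp hk
  have hin : P ⊔ T₁ ⊓ T₂ ≤ (P₀ ⊔ D₀.center).map (MonoidHom.fst Ω Ω) := by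
    refine sup_le (fun a ha => ⟨(a, 1), Subgroup.mem_sup_left ⟨ha, Subgroup.one_mem _⟩, rfl⟩)
      fun z hz => ⟨(z, z⁻¹), Subgroup.mem_sup_right (hZ (hmem z hz)), rfl⟩
  refine ⟨k₁, hk₁.mono hin, fun a ha => ?_, fun z hz => ?_⟩
  · have hx : ((a, 1) : Ω × Ω) ∈ P₀ := ⟨ha, Subgroup.one_mem _⟩
    have h1 := hkf _ hx
    rw [hs _ (Subgroup.mem_sup_left hx)] at h1
    exact congrArg Prod.fst h1
  · have hx := hZ (hmem z hz)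
    have h1 := hkZ _ hx
    rw [hs _ (Subgroup.mem_sup_right hx)] at h1
    exact congrArg Prod.fst h1

/-- A system with the splitting maps is a central product. -/
theorem isCentralProductOf_of_iff [Finite S] (hc : Comm F T₁ T₂) (h₁ : T₁ ⊓ T₂ ≤ E₁.center)
    (h₂ : T₁ ⊓ T₂ ≤ E₂.center) {D : FusionSystem (T₁ ⊔ T₂)}
    (hD : ∀ (P : Subgroup Ω) (f : Ω → Ω), IsMap D P f ↔ P ≤ T₁ ⊔ T₂ ∧ Splits E₁ E₂ P f) :
    IsCentralProductOf E₁ E₂ D := by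
  haveI := finite_of_le hc.sc₁.1
  haveI := finite_of_le hc.sc₂.1
  haveI : Finite (T₁.prod T₂) := Finite.of_equiv _ (Subgroup.prodEquiv T₁ T₂).symm.toEquiv
  set D₀ := prodSystem E₁ E₂
  have hD₀ : IsProductSystem E₁ E₂ D₀ := isProductSystem_prodSystem E₁ E₂
  let θ : ↥(T₁.prod T₂) →* Ω :=
    MonoidHom.mk' (fun x => (x : Ω × Ω).1 * (x : Ω × Ω).2) fun x y => by
      show (x : Ω × Ω).1 * (y : Ω × Ω).1 * ((x : Ω × Ω).2 * (y : Ω × Ω).2) = _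
      rw [mul_assoc, ← mul_assoc (y : Ω × Ω).1, hc.comm _ y.2.1 _ x.2.2]
      simp only [mul_assoc]
  have hθ₁ : ∀ (x : Ω) (hx : ((x, 1) : Ω × Ω) ∈ T₁.prod T₂), θ ⟨(x, 1), hx⟩ = x :=
    fun x _ => mul_one x
  have hθ₂ : ∀ (y : Ω) (hy : ((1, y) : Ω × Ω) ∈ T₁.prod T₂), θ ⟨(1, y), hy⟩ = y :=
    fun y _ => one_mul y
  let Z : Subgroup (Ω × Ω) := θ.ker.map (T₁.prod T₂).subtype
  have hZmem : ∀ {x : Ω × Ω}, x ∈ Z ↔ x.1 ∈ T₁ ∧ x.2 ∈ T₂ ∧ x.1 * x.2 = 1 := by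
    intro x
    constructor
    · rintro ⟨⟨y, hy⟩, hker, rfl⟩
      exact ⟨hy.1, hy.2, hker⟩
    · rintro ⟨hx₁, hx₂, e⟩
      exact ⟨⟨x, hx₁, hx₂⟩, e, rfl⟩
  have hA : ∀ {x : Ω × Ω}, x ∈ Z → x.1 ∈ T₁ ⊓ T₂ ∧ x.2 ∈ T₁ ⊓ T₂ := fun hx => by
    obtain ⟨hx₁, hx₂, e⟩ := hZmem.mp hx
    refine ⟨⟨hx₁, ?_⟩, ?_, hx₂⟩
    · rw [eq_inv_of_mul_eq_one_left e]; exact T₂.inv_mem hx₂
    · rw [eq_inv_of_mul_eq_one_right e]; exact T₁.inv_mem hx₁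
  have hZS : Z ≤ T₁.prod T₂ := Subgroup.map_subtype_le _
  have hZc : Z ≤ D₀.center := by
    refine le_sSup (show Z ∈ {Q | D₀.IsCentral Q} from isCentral_iff.mpr ⟨hZS, fun P f hf => ?_⟩)
    obtain ⟨hP, f₁, f₂, hf₁, hf₂, hs⟩ := (isMap_product_iff hD₀).mp hf
    obtain ⟨k₁, hk₁, hkf₁, hkc₁⟩ := (isCentral_iff.mp isCentral_center).2 _ _ hf₁
    obtain ⟨k₂, hk₂, hkf₂, hkc₂⟩ := (isCentral_iff.mp isCentral_center).2 _ _ hf₂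
    refine ⟨fun x => (k₁ x.1, k₂ x.2), (isMap_product_iff hD₀).mpr ⟨sup_le hP hZS, k₁, k₂,
      hk₁.mono ?_, hk₂.mono ?_, fun _ _ => rfl⟩, fun x hx => ?_, fun x hx => ?_⟩
    · rw [Subgroup.map_sup]
      refine sup_le_sup_left ?_ _
      rintro _ ⟨x, hx, rfl⟩
      exact h₁ (hA hx).1
    · rw [Subgroup.map_sup]
      refine sup_le_sup_left ?_ _
      rintro _ ⟨x, hx, rfl⟩
      exact h₂ (hA hx).2
    · rw [hs x hx]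
      exact Prod.ext (hkf₁ _ (fst_mem_map hx)) (hkf₂ _ (snd_mem_map hx))
    · exact Prod.ext (hkc₁ _ (h₁ (hA hx).1)) (hkc₂ _ (h₂ (hA hx).2))
  have hker : ∀ s : ↥(T₁.prod T₂), θ s = 1 ↔ (s : Ω × Ω) ∈ Z := fun s =>
    ⟨fun hs => ⟨s, hs, rfl⟩, fun hs => (hZmem.mp hs).2.2⟩
  refine ⟨D₀, hD₀, Z, θ, hZc, ?_, ?_, hθ₁, hθ₂, hZS, hker, range_pair hθ₁ hθ₂, fun P φ => ?_⟩
  · rw [eq_bot_iff]
    rintro x ⟨hxZ, -, hx2⟩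
    have e := (hZmem.mp hxZ).2.2
    rw [Subgroup.mem_bot.mp hx2, mul_one] at e
    exact Subgroup.mem_bot.mpr (Prod.ext e (Subgroup.mem_bot.mp hx2))
  · rw [eq_bot_iff]
    rintro x ⟨hxZ, hx1, -⟩
    have e := (hZmem.mp hxZ).2.2
    rw [Subgroup.mem_bot.mp hx1, one_mul] at e
    exact Subgroup.mem_bot.mpr (Prod.ext (Subgroup.mem_bot.mp hx1) e)
  · constructor
    · intro hφ
      obtain ⟨hP, hsp⟩ := (hD P _).mp (isMap_of_mem hφ)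
      obtain ⟨g, ⟨ψ, hψ, e⟩, hg⟩ := (splits_iff hc hθ₁ hθ₂ hD₀ hP).mp hsp
      exact ⟨hP, ψ, hψ, induced_of_isMap ⟨ψ, hψ, e⟩ e (fun y => (toFun'_apply φ y).symm) hg⟩
    · rintro ⟨hP, ψ, hψ, hind⟩
      refine IsMap.mem_toFun' ((hD P _).mpr ⟨hP, (splits_iff hc hθ₁ hθ₂ hD₀ hP).mpr
        ⟨toFun' ψ, isMap_of_mem hψ, isMap_of_induced hind (fun x => (toFun'_apply ψ x).symm)
          fun y => (toFun'_apply φ y).symm⟩⟩)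

end Cfsg.Lib.Fusion.CPair
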