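import Cfsg.Agent.Fusion.CentralPair.Family
import Cfsg.Agent.Fusion.CentralPair.Product
import Cfsg.Agent.Fusion.NormalFamily.System
import Cfsg.Agent.Fusion.NormalCentralizer.Lift
import Cfsg.Agent.Fusion.PrimeResidual
import Cfsg.Agent.Fusion.WeaklyNormalResidual
import Cfsg.Agent.Fusion.PPowerUnique

/-!
The normal subsystem generated by two commuting normal subsystems.
-/

set_option autoImplicit false
set_option linter.unusedSectionVars false
set_option linter.style.haveILetI false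

namespace Cfsg.Lib.Fusion.CPair

open Cfsg Cfsg.FusionSystem Cfsg.Lib.Fusion

universe u

variable {Ω : Type u} [Group Ω] {S T₁ T₂ : Subgroup Ω} {F : FusionSystem S}
  {E₁ : FusionSystem T₁} {E₂ : FusionSystem T₂} {p : ℕ} [Finite S] [Fact p.Prime]

namespace Pair

variable (h : Pair F E₁ E₂ p)
include h

theorem members_symm : members F T₂ T₁ = members F T₁ T₂ := by
  unfold members
  rw [sup_comm T₂ T₁]

theorem gen_symm {P : Subgroup Ω} {f : Ω → Ω}
    (hf : NFam.Gen (members F T₂ T₁) (pairX F E₂ E₁) P f) :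
    NFam.Gen (members F T₁ T₂) (pairX F E₁ E₂) P f := by
  induction hf with
  | @base Q P β f hQ hβ hP e =>
    obtain ⟨hβF, k, hk, ek, hk₂, hk₁⟩ := (h.symm.mem_pairX hQ.1).mp hβ
    rw [h.members_symm] at hQ
    exact .base hQ ((h.mem_pairX hQ.1).mpr ⟨hβF, k, (by rw [← hull_comm]; exact hk), ek, hk₁, hk₂⟩)
      hP e
  | comp _ _ hm e ih₁ ih₂ => exact .comp ih₁ ih₂ hm e

theorem T₂_le_centralizer {R : Subgroup Ω} (hR : R ≤ T₁) : T₂ ≤ centralizerIn S R := fun b hb =>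
  Fusion.mem_centralizerIn.mpr ⟨h.inv₂.2.1.1 hb, fun x hx => by
    rw [← h.commute x (hR hx) b hb, mul_inv_cancel_right]⟩

theorem inf_le_centric {R : Subgroup Ω} (hR : E₁.IsCentric R) : T₁ ⊓ T₂ ≤ R := fun z hz =>
  hR.2 R (isConj_refl hR.1) (Fusion.mem_centralizerIn.mpr ⟨hz.1, fun x hx => by
    rw [← h.commute x (hR.1 hx) z hz.2, mul_inv_cancel_right]⟩)

/-- A centric subgroup times the second subgroup is a member. -/
theorem member_sup {R : Subgroup Ω} (hR : E₁.IsCentric R) : R ⊔ T₂ ∈ members F T₁ T₂ := by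
  refine ⟨sup_le_sup_right hR.1 T₂, fun R' hR' => ?_⟩
  obtain ⟨f, hf, rfl⟩ := isConj_iff.mp hR'
  have hfR := hf.mono (le_sup_left : R ≤ R ⊔ T₂)
  have hR₁ : E₁.IsCentric (img R f) := CharSub.centricT_img h.inv₁ hR hfR
  rw [hf.img_sup, h.map_T₂ hf]
  intro c hc
  obtain ⟨hcT, hcc⟩ := Fusion.mem_centralizerIn.mp hc
  obtain ⟨a, ha, b, hb, rfl⟩ := h.toComm.mem_sup.mp hcT
  have hab : ∀ y ∈ img R f, b * y * b⁻¹ = y := fun y hy => by
    rw [← h.commute y (hR₁.1 hy) b hb, mul_inv_cancel_right]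
  refine Subgroup.mul_mem _ (Subgroup.mem_sup_left (hR₁.2 _ (isConj_refl hR₁.1) ?_))
    (Subgroup.mem_sup_right hb)
  refine Fusion.mem_centralizerIn.mpr ⟨ha, fun y hy => ?_⟩
  have h1 := hcc y (Subgroup.mem_sup_left hy)
  rwa [show a * b * y * (a * b)⁻¹ = a * (b * y * b⁻¹) * a⁻¹ by group, hab y hy] at h1

variable (hA : T₁ ⊓ T₂ ≤ E₁.center)
include hA

/-- An automorphism of order prime to `p` extends trivially to the second subgroup. -/
theorem coprime_lift {R : Subgroup Ω} (hR : E₁.IsCentric R) {α : MulAut R}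
    (hα : α ∈ E₁.autGroup R) (hcop : (orderOf α).Coprime p) :
    ∃ G, IsMap F (R ⊔ centralizerIn S R) G ∧ (∀ x ∈ R, G x = autFun α x) ∧
      (∀ b ∈ T₂, G b = b) ∧ ∀ c ∈ centralizerIn S R, c⁻¹ * G c ∈ R := by
  haveI := finite_of_le h.inv₁.2.1.1
  have hRS : R ≤ S := hR.1.trans h.inv₁.2.1.1
  haveI := finite_of_le hRS
  set X := R ⊔ centralizerIn S R
  have hXS : X ≤ S := sup_le hRS inf_le_left
  haveI := finite_of_le hXS
  obtain ⟨g, hg, eg, hgc⟩ := NExt.goodExt h.pgroup h.n₁ hR α hα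
  obtain ⟨κ, hκ, eκ⟩ := hg.exists_aut (img_eq_of_apply hg le_rfl
    (NormCent.mem_of_lift hg (fun x hx => eg x hx ▸ autFun_mem α hx) hgc))
  obtain ⟨n, hn, hαn⟩ := exists_coprime_power κ (β := α) hcop
  have hRX : R ≤ X := le_sup_left
  have hres : ∀ i : ℕ, ∀ x ∈ R, autFun (κ ^ i) x = autFun (α ^ i) x := by
    intro i
    induction i with
    | zero => intro x hx; rw [pow_zero, pow_zero, autFun_one hx, autFun_one (hRX hx)]
    | succ i ih =>
      intro x hx
      rw [pow_succ', pow_succ', autFun_mul _ _ hx, autFun_mul _ _ (hRX hx), ih x hx,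
        eκ _ (hRX (autFun_mem _ hx)), eg _ (autFun_mem _ hx)]
  have hκm := (isMap_autFun hXS).mpr hκ
  have hmod : ∀ i : ℕ, ∀ c ∈ centralizerIn S R, c⁻¹ * autFun (κ ^ i) c ∈ R := by
    intro i
    induction i with
    | zero =>
      intro c hc
      rw [pow_zero, autFun_one (show c ∈ X from Subgroup.mem_sup_right hc), inv_mul_cancel]
      exact R.one_mem
    | succ i ih =>
      intro c hc
      have hcX : c ∈ X := Subgroup.mem_sup_right hc
      have hr := ih c hc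
      rw [pow_succ', autFun_mul _ _ hcX,
        show autFun (κ ^ i) c = c * (c⁻¹ * autFun (κ ^ i) c) by group,
        hκm.map_mul hcX (hRX hr), eκ c hcX, eκ _ (hRX hr), eg _ hr, ← mul_assoc]
      exact R.mul_mem (hgc c hc) (autFun_mem α hr)
  refine ⟨autFun (κ ^ n), (isMap_autFun hXS).mpr (Subgroup.pow_mem _ hκ n),
    fun x hx => by rw [hres n x hx, hαn], fun b hb => ?_, hmod n⟩
  have hbC := h.T₂_le_centralizer hR.1 hb
  have hbX : b ∈ X := Subgroup.mem_sup_right hbC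
  set z := b⁻¹ * autFun (κ ^ n) b with hz
  have hzR : z ∈ R := hmod n b hbC
  have hzA : z ∈ T₁ ⊓ T₂ := ⟨hR.1 hzR, T₂.mul_mem (T₂.inv_mem hb)
    (stronglyClosed_apply h.inv₂.2.1 ((isMap_autFun hXS).mpr (Subgroup.pow_mem _ hκ n)) hbX hb)⟩
  have hzfix : autFun (κ ^ n) z = z := by
    rw [hres n z hzR, hαn]
    exact apply_of_mem_center (hA hzA) ((isMap_autFun hR.1).mpr hα) hzR
  have hm := (isMap_autFun hXS).mpr (Subgroup.pow_mem _ hκ n)
  have hpow : ∀ i : ℕ, autFun ((κ ^ n) ^ i) b = b * z ^ i := by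
    intro i
    induction i with
    | zero => rw [pow_zero, autFun_one hbX, pow_zero, mul_one]
    | succ i ih =>
      rw [pow_succ', autFun_mul _ _ hbX, ih, hm.map_mul hbX (X.pow_mem (hRX hzR) i),
        hm.map_pow (hRX hzR), hzfix, pow_succ', ← mul_assoc]
      simp only [hz, mul_inv_cancel_left]
  have h1 := hpow (orderOf (κ ^ n))
  rw [pow_orderOf_eq_one, autFun_one hbX] at h1
  obtain ⟨j, hj⟩ := NormCent.exists_pow_eq_one h.pgroup (hRS hzR)
  have hz1 : z ∈ (⊥ : Subgroup Ω) :=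
    NormCent.mem_of_pow_mem_coprime hj hn (Subgroup.mem_bot.mpr (left_eq_mul.mp h1))
  rw [Subgroup.mem_bot, hz, inv_mul_eq_one] at hz1
  exact hz1.symm

/-- Maps of the first subsystem, extended by the identity. -/
theorem lift_gen {P : Subgroup Ω} {r : Ω → Ω} (hr : IsMap E₁ P r) :
    ∃ G, NFam.Gen (members F T₁ T₂) (pairX F E₁ E₂) (P ⊔ T₂) G ∧ (∀ x ∈ P, G x = r x) ∧
      ∀ b ∈ T₂, G b = b := by
  have hX := h.fam_pair
  have hT₁ : T₁ ≤ S := h.inv₁.2.1.1
  haveI := finite_of_le hT₁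
  have hT₁p : IsPGroup p T₁ := h.pgroup.of_injective _ (Subgroup.inclusion_injective hT₁)
  let Φ : Subgroup Ω → (Ω → Ω) → Prop := fun P r =>
    ∃ G, NFam.Gen (members F T₁ T₂) (pairX F E₁ E₂) (P ⊔ T₂) G ∧ (∀ x ∈ P, G x = r x) ∧
      ∀ b ∈ T₂, G b = b
  have hconj : ∀ (P : Subgroup Ω) (g : Ω), P ≤ T₁ → g ∈ T₁ → Φ P (fun x => g * x * g⁻¹) :=
    fun P g hP hg => ⟨_, NFam.Gen.conj hX (sup_le_sup_right hP T₂) (Subgroup.mem_sup_left hg),
      fun _ _ => rfl, fun b hb => by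
        show g * b * g⁻¹ = b
        rw [h.commute g hg b hb, mul_inv_cancel_right]⟩
  have hcls : IsMapClass E₁ Φ :=
    { conj := hconj
      congr := fun P f f' _ e ⟨G, hG, eG, hb⟩ =>
        ⟨G, hG, fun x hx => (eG x hx).trans (e x hx).symm, hb⟩
      mono := fun P R f _ hR ⟨G, hG, eG, hb⟩ =>
        ⟨G, hG.mono (sup_le_sup_right hR T₂), fun x hx => eG x (hR hx), hb⟩
      comp := fun P R f g _ _ hfR ⟨G, hG, eG, hb⟩ ⟨G', hG', eG', hb'⟩ => by
        refine ⟨G' ∘ G, .comp hG hG' (IsMap.img_le_iff.mp ?_) (fun _ _ => rfl), fun x hx => ?_,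
          fun b hb₂ => ?_⟩
        · rw [(hG.isMap hX).1.img_sup, fix_img hb]
          exact sup_le_sup_right (IsMap.img_le_iff.mpr fun x hx => eG x hx ▸ hfR x hx) T₂
        · show G' (G x) = g (f x)
          rw [eG x hx, eG' _ (hfR x hx)]
        · show G' (G b) = b
          rw [hb b hb₂, hb' b hb₂]
      inv := fun P f g hf _ hl ⟨G, hG, eG, hb⟩ => by
        obtain ⟨m, hm, hml⟩ := NFam.Gen.inv hX hG
        rw [(hG.isMap hX).1.img_sup, fix_img hb, img_congr (f' := f) eG] at hm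
        refine ⟨m, hm, fun y hy => ?_, fun b hb₂ => ?_⟩
        · obtain ⟨x, hx, rfl⟩ := hf.mem_img.mp hy
          rw [hl x hx, ← eG x hx, hml x (Subgroup.mem_sup_left hx)]
        · conv_lhs => rw [← hb b hb₂]
          exact hml b (Subgroup.mem_sup_right hb₂) }
  have hgood : ∀ Q : Subgroup Ω, E₁.IsCentric Q → E₁.IsFullyNormalized Q →
      ∀ α ∈ E₁.autGroup Q, Φ Q (autFun α) := fun Q hQ hQn => by
    haveI := finite_of_le hQ.1
    haveI : Finite (MulAut Q) := NormCent.finite_mulAut Q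
    have one : Φ Q (autFun (1 : MulAut Q)) := hcls.congr Q _ _ (isMap_conj hQ.1 T₁.one_mem)
      (fun x hx => by rw [autFun_one hx]; group) (hconj Q 1 hQ.1 T₁.one_mem)
    let K : Subgroup (MulAut Q) :=
      { carrier := {α | α ∈ E₁.autGroup Q ∧ Φ Q (autFun α)}
        one_mem' := ⟨one_mem _, one⟩
        mul_mem' := fun {a b} ha hb => ⟨mul_mem ha.1 hb.1, hcls.congr Q (autFun a ∘ autFun b) _
          (((isMap_autFun hQ.1).mpr hb.1).comp ((isMap_autFun hQ.1).mpr ha.1)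
            fun x hx => autFun_mem b hx) (fun x hx => autFun_mul a b hx)
          (hcls.comp Q Q _ _ ((isMap_autFun hQ.1).mpr hb.1) ((isMap_autFun hQ.1).mpr ha.1)
            (fun x hx => autFun_mem b hx) hb.2 ha.2)⟩
        inv_mem' := fun {a} ha => by
          have hi := Subgroup.inv_mem _ ha.1
          refine ⟨hi, ?_⟩
          have h1 := hcls.inv Q (autFun a) (autFun a⁻¹) ((isMap_autFun hQ.1).mpr ha.1)
            (by rw [img_autFun]; exact (isMap_autFun hQ.1).mpr hi)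
            (fun x hx => autFun_inv_apply' a hx) ha.2
          rwa [img_autFun] at h1 }
    refine fun α hα => (PPower.autGroup_le_of h.pgroup hT₁ h.n₁.1.1 hQn (K := K) (fun a ha => ?_)
      (fun a ha hac => ⟨ha, ?_⟩) hα).2
    · refine ⟨autInducedBy_le hQ.1 ha, ?_⟩
      obtain ⟨t, ht, et⟩ := mem_autInducedBy.mp ha
      exact hcls.congr Q _ _ (isMap_conj hQ.1 ht)
        (fun x hx => by rw [autFun_apply_mem _ hx]; exact et ⟨x, hx⟩) (hconj Q t hQ.1 ht)
    · obtain ⟨G, hG, eG, hb, -⟩ := h.coprime_lift hA hQ ha hac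
      have hQT : Q ⊔ T₂ ≤ Q ⊔ centralizerIn S Q := sup_le_sup_left (h.T₂_le_centralizer hQ.1) Q
      have hmem := h.member_sup hQ
      haveI := finite_of_le (hmem.1.trans h.toComm.le_S)
      have hm := hG.mono hQT
      obtain ⟨β, hβ, eβ⟩ := hm.exists_aut (by
        rw [hm.img_sup, fix_img hb, img_congr (f' := autFun a) eG, img_autFun])
      refine ⟨G, .base hmem ((h.mem_pairX hmem.1).mpr ⟨hβ, G, ?_, fun x hx => (eβ x hx).symm, ?_, ?_⟩)
        le_rfl (fun x hx => (eβ x hx).symm), eG, hb⟩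
      · refine hm.mono (sup_le ?_ (prj_le.trans le_sup_right))
        exact inf_le_left.trans (sup_le le_rfl le_sup_right)
      · refine (((isMap_autFun hQ.1).mpr ha).congr eG).mono fun x hx => ?_
        obtain ⟨hxT, b, hb₂, hxb⟩ := (h.toComm.mem_prj hmem.1).mp hx
        obtain ⟨q, hq, c, hc, e⟩ := (h.toComm.mem_sup_T₂ (hQ.1.trans le_sup_left)).mp hxb
        have h1 : q⁻¹ * x = c * b⁻¹ := by
          calc q⁻¹ * x = q⁻¹ * (x * b) * b⁻¹ := by group
            _ = q⁻¹ * (q * c) * b⁻¹ := by rw [e]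
            _ = c * b⁻¹ := by group
        have hqT : q⁻¹ * x ∈ T₁ ⊓ T₂ := ⟨T₁.mul_mem (T₁.inv_mem (hQ.1 hq)) hxT,
          h1 ▸ T₂.mul_mem hc (T₂.inv_mem hb₂)⟩
        have := Q.mul_mem hq (h.inf_le_centric hQ hqT)
        rwa [mul_inv_cancel_left] at this
      · exact (isMap_id (F := E₂) prj_le).congr fun x hx => hb x (prj_le hx)
  refine alperin_radical hT₁p h.n₁.1.1 hcls (fun g hg => ?_)
    (fun Q _ hQn hQc _ _ α hα => hgood Q hQc hQn α hα) hr
  obtain ⟨α, hα, eα⟩ := hg.exists_aut (Subgroup.eq_of_le_of_card_ge hg.img_le hg.card_img.ge)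
  refine hcls.congr T₁ _ g ((isMap_autFun le_rfl).mpr hα) (fun x hx => (eα x hx).symm)
    (hgood T₁ (CharSub.centric_top h.inv₁) ⟨le_rfl, fun Q hQ => ?_⟩ α hα)
  obtain ⟨f, hf, rfl⟩ := isConj_iff.mp hQ
  rw [Subgroup.eq_of_le_of_card_ge hf.img_le hf.card_img.ge]

omit hA in
/-- The maps of the generated system split. -/
theorem splits_of_gen {P : Subgroup Ω} {f : Ω → Ω}
    (hf : NFam.Gen (members F T₁ T₂) (pairX F E₁ E₂) P f) :
    P ≤ T₁ ⊔ T₂ ∧ Splits E₁ E₂ P f := by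
  refine ⟨(hf.isMap h.fam_pair).2, ?_⟩
  induction hf with
  | @base Q P β f hQ hβ hP e =>
    obtain ⟨-, k, hk, ek, hk₁, hk₂⟩ := (h.mem_pairX hQ.1).mp hβ
    refine ⟨k, k, hk₁.mono (prj_mono hP), hk₂.mono (prj_mono hP), fun a ha b hb hab => ?_⟩
    rw [e _ hab, ← ek _ (hP hab)]
    exact hk.map_mul (Subgroup.mem_sup_left (prj_mono hP ha))
      (Subgroup.mem_sup_right (prj_mono hP hb))
  | @comp P R f g f' h1 h2 hm e ih₁ ih₂ =>
    obtain ⟨f₁, f₂, hf₁, hf₂, hfs⟩ := ih₁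
    obtain ⟨g₁, g₂, hg₁, hg₂, hgs⟩ := ih₂
    have hPT := (h1.isMap h.fam_pair).2
    have hRT := (h2.isMap h.fam_pair).2
    have hc := h.toComm
    have hin₁ : ∀ a ∈ prj T₁ T₂ P, f₁ a ∈ prj T₁ T₂ R := fun a ha => by
      obtain ⟨haT, b, hb, hab⟩ := (hc.mem_prj hPT).mp ha
      have hbP : b ∈ prj T₂ T₁ P := (hc.symm.mem_prj (hPT.trans (sup_comm T₁ T₂).le)).mpr
        ⟨hb, a, haT, h.commute a haT b hb ▸ hab⟩
      exact (hc.mem_prj hRT).mpr ⟨hf₁.mem_S ha, f₂ b, hf₂.mem_S hbP,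
        hfs a ha b hbP hab ▸ hm _ hab⟩
    have hin₂ : ∀ b ∈ prj T₂ T₁ P, f₂ b ∈ prj T₂ T₁ R := fun b hb => by
      obtain ⟨hbT, a, ha, hab⟩ := (hc.symm.mem_prj (hPT.trans (sup_comm T₁ T₂).le)).mp hb
      rw [← h.commute a ha b hbT] at hab
      have haP : a ∈ prj T₁ T₂ P := (hc.mem_prj hPT).mpr ⟨ha, b, hbT, hab⟩
      refine (hc.symm.mem_prj (hRT.trans (sup_comm T₁ T₂).le)).mpr
        ⟨hf₂.mem_S hb, f₁ a, hf₁.mem_S haP, ?_⟩
      rw [← h.commute _ (hf₁.mem_S haP) _ (hf₂.mem_S hb), ← hfs a haP b hb hab]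
      exact hm _ hab
    refine ⟨g₁ ∘ f₁, g₂ ∘ f₂, hf₁.comp hg₁ hin₁, hf₂.comp hg₂ hin₂, fun a ha b hb hab => ?_⟩
    rw [e _ hab, hfs a ha b hb hab]
    exact hgs _ (hin₁ a ha) _ (hin₂ b hb) (hfs a ha b hb hab ▸ hm _ hab)

end Pair

section Main

variable (h : Pair F E₁ E₂ p) (hA₁ : T₁ ⊓ T₂ ≤ E₁.center) (hA₂ : T₁ ⊓ T₂ ≤ E₂.center)
include h hA₁ hA₂

/-- The maps of the generated system are exactly the splitting maps. -/
theorem gen_iff {P : Subgroup Ω} {f : Ω → Ω} :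
    NFam.Gen (members F T₁ T₂) (pairX F E₁ E₂) P f ↔ P ≤ T₁ ⊔ T₂ ∧ Splits E₁ E₂ P f := by
  refine ⟨h.splits_of_gen, fun ⟨hP, f₁, f₂, hf₁, hf₂, hs⟩ => ?_⟩
  have hX := h.fam_pair
  have hc := h.toComm
  obtain ⟨G₁, hG₁, eG₁, hb₁⟩ := h.lift_gen hA₁ hf₁
  obtain ⟨G₂, hG₂', eG₂, hb₂⟩ := h.symm.lift_gen (by rw [inf_comm]; exact hA₂) hf₂
  have hG₂ := h.gen_symm hG₂'
  have hm₁ := (hG₁.isMap hX).1
  have hm₂ := (hG₂.isMap hX).1
  have hPle : P ≤ prj T₁ T₂ P ⊔ T₂ := fun x hx => by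
    obtain ⟨a, ha, b, hb, rfl⟩ := hc.decomp hP hx
    exact Subgroup.mul_mem _ (Subgroup.mem_sup_left ha) (Subgroup.mem_sup_right (prj_le hb))
  have hval : ∀ a ∈ prj T₁ T₂ P, ∀ b ∈ prj T₂ T₁ P, G₁ (a * b) = f₁ a * b := fun a ha b hb => by
    rw [hm₁.map_mul (Subgroup.mem_sup_left ha) (Subgroup.mem_sup_right (prj_le hb)), eG₁ a ha,
      hb₁ b (prj_le hb)]
  refine .comp (hG₁.mono hPle) hG₂ (fun x hx => ?_) fun x hx => ?_
  · obtain ⟨a, ha, b, hb, rfl⟩ := hc.decomp hP hx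
    rw [hval a ha b hb]
    exact Subgroup.mul_mem _ (Subgroup.mem_sup_right (hf₁.mem_S ha)) (Subgroup.mem_sup_left hb)
  · obtain ⟨a, ha, b, hb, rfl⟩ := hc.decomp hP hx
    rw [hs a ha b hb hx, hval a ha b hb,
      hm₂.map_mul (Subgroup.mem_sup_right (hf₁.mem_S ha)) (Subgroup.mem_sup_left hb),
      hb₂ _ (hf₁.mem_S ha), eG₂ b hb]

/-- The generated system is normal. -/
theorem famSystem_normal : (NFam.famSystem h.fam_pair).IsNormalIn F p := by
  have hX := h.fam_pair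
  have hw := NFam.fam_weaklyNormal h.pgroup h.sat hX
  have hc := h.toComm
  set T := T₁ ⊔ T₂
  refine ⟨hw, fun α hα => ?_⟩
  have hTS : T ≤ S := hX.sc.1
  haveI := finite_of_le hTS
  set D := NFam.famSystem hX
  have hTn : D.IsFullyNormalized T := ⟨le_rfl, fun Q hQ => by
    obtain ⟨f, hf, rfl⟩ := isConj_iff.mp hQ
    rw [Subgroup.eq_of_le_of_card_ge hf.img_le hf.card_img.ge]⟩
  have hle : D.autGroup T ≤ NormCent.liftable F T hTS := by
    refine PPower.autGroup_le_of h.pgroup hTS hw.1 hTn (fun a ha => ?_) fun a ha hcop => ?_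
    · obtain ⟨t, ht, et⟩ := mem_autInducedBy.mp ha
      refine ⟨_, isMap_conj (sup_le hTS inf_le_left) (hTS ht), fun x hx => ?_, fun d hd => ?_⟩
      · rw [autFun_apply_mem _ hx, et]
      · rw [show t * d * t⁻¹ = d by
          rw [← NormCent.centralizerIn_comm hd ht, mul_inv_cancel_right], inv_mul_cancel]
        exact T.one_mem
    · rw [NFam.fam_autGroup h.pgroup h.sat hX hX.top] at ha
      obtain ⟨-, k, hk, ek, hk₁, hk₂⟩ := (h.mem_pairX le_rfl).mp ha
      have hp₁ : prj T₁ T₂ T = T₁ := le_antisymm prj_le (le_inf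
        (le_sup_left.trans le_sup_left) le_rfl)
      have hp₂ : prj T₂ T₁ T = T₂ := le_antisymm prj_le (le_inf
        (le_sup_right.trans le_sup_left) le_rfl)
      rw [hp₁] at hk₁
      rw [hp₂] at hk₂
      haveI := finite_of_le hc.sc₁.1
      haveI := finite_of_le hc.sc₂.1
      -- the two components
      have hcomp : ∀ {U : Subgroup Ω} {E : FusionSystem U}, U ≤ T → IsMap E U k → Finite U →
          ∃ b ∈ E.autGroup U, (orderOf b).Coprime p ∧ ∀ x ∈ U, autFun b x = autFun a x := by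
        intro U E hUT hkU _
        obtain ⟨b, hb, eb⟩ := hkU.exists_aut
          (Subgroup.eq_of_le_of_card_ge hkU.img_le hkU.card_img.ge)
        have e : ∀ x ∈ U, autFun b x = autFun a x := fun x hx => by rw [eb x hx, ek x (hUT hx)]
        have hpow : ∀ i : ℕ, ∀ x ∈ U, autFun (b ^ i) x = autFun (a ^ i) x := by
          intro i
          induction i with
          | zero => intro x hx; rw [pow_zero, pow_zero, autFun_one hx, autFun_one (hUT hx)]
          | succ i ih =>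
            intro x hx
            rw [pow_succ', pow_succ', autFun_mul _ _ hx, autFun_mul _ _ (hUT hx),
              e _ (autFun_mem _ hx), ih x hx]
        exact ⟨b, hb, hcop.coprime_dvd_left (orderOf_dvd_of_pow_eq_one (NFam.eq_of_autFun
          fun x hx => by rw [hpow _ x hx, pow_orderOf_eq_one, autFun_one (hUT hx), autFun_one hx])),
          e⟩
      obtain ⟨a₁, ha₁, hc₁, e₁⟩ := hcomp le_sup_left hk₁ inferInstance
      obtain ⟨a₂, ha₂, hc₂, e₂⟩ := hcomp le_sup_right hk₂ inferInstance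
      obtain ⟨G₁, hG₁, eG₁, hb₁, hm₁⟩ :=
        h.coprime_lift hA₁ (CharSub.centric_top h.inv₁) ha₁ hc₁
      obtain ⟨G₂, hG₂, eG₂, hb₂, hm₂⟩ :=
        h.symm.coprime_lift (by rw [inf_comm]; exact hA₂) (CharSub.centric_top h.inv₂) ha₂ hc₂
      have hC₁ : centralizerIn S T ≤ centralizerIn S T₁ := NormCent.centralizerIn_anti le_sup_left
      have hC₂ : centralizerIn S T ≤ centralizerIn S T₂ := NormCent.centralizerIn_anti le_sup_right
      have hs₁ : T ⊔ centralizerIn S T ≤ T₁ ⊔ centralizerIn S T₁ :=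
        sup_le (sup_le le_sup_left ((h.T₂_le_centralizer le_rfl).trans le_sup_right))
          (hC₁.trans le_sup_right)
      have hs₂ : T ⊔ centralizerIn S T ≤ T₂ ⊔ centralizerIn S T₂ :=
        sup_le (sup_le ((h.symm.T₂_le_centralizer le_rfl).trans le_sup_right) le_sup_left)
          (hC₂.trans le_sup_right)
      have hG₂' := hG₂.mono hs₂
      have hmap : ∀ y ∈ T ⊔ centralizerIn S T, G₂ y ∈ T ⊔ centralizerIn S T := by
        refine IsMap.img_le_iff.mp ?_
        rw [hG₂'.img_sup]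
        refine sup_le ((IsMap.img_le_iff.mpr fun x hx => ?_).trans le_sup_left)
          (IsMap.img_le_iff.mpr fun c hcc => ?_)
        · exact stronglyClosed_apply hX.sc hG₂' (Subgroup.mem_sup_left hx) hx
        · rw [show G₂ c = c * (c⁻¹ * G₂ c) by group]
          exact Subgroup.mul_mem _ (Subgroup.mem_sup_right hcc)
            (Subgroup.mem_sup_left (Subgroup.mem_sup_right (hm₂ c (hC₂ hcc))))
      refine ⟨G₁ ∘ G₂, hG₂'.comp (hG₁.mono hs₁) hmap, fun x hx => ?_, fun c hcc => ?_⟩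
      · obtain ⟨u, hu, w, hw, rfl⟩ := hc.mem_sup.mp hx
        show G₁ (G₂ (u * w)) = _
        rw [hG₂'.map_mul (Subgroup.mem_sup_left (Subgroup.mem_sup_left hu))
          (Subgroup.mem_sup_left (Subgroup.mem_sup_right hw)), hb₂ u hu, eG₂ w hw,
          (hG₁.mono hs₁).map_mul (Subgroup.mem_sup_left (Subgroup.mem_sup_left hu))
            (Subgroup.mem_sup_left (Subgroup.mem_sup_right (autFun_mem a₂ hw))),
          eG₁ u hu, hb₁ _ (autFun_mem a₂ hw), e₁ u hu, e₂ w hw,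
          ((isMap_autFun (F := F) hTS).mpr ((h.mem_pairX le_rfl).mp
            ‹_›).1).map_mul (Subgroup.mem_sup_left hu) (Subgroup.mem_sup_right hw)]
      · show c⁻¹ * G₁ (G₂ c) ∈ T
        have hz := hm₂ c (hC₂ hcc)
        rw [show G₂ c = c * (c⁻¹ * G₂ c) by group,
          (hG₁.mono hs₁).map_mul (Subgroup.mem_sup_right hcc)
            (Subgroup.mem_sup_left (Subgroup.mem_sup_right hz)), hb₁ _ hz, ← mul_assoc]
        exact T.mul_mem (Subgroup.mem_sup_left (hm₁ c (hC₁ hcc))) (Subgroup.mem_sup_right hz)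
  obtain ⟨W, hW, eW, hWc⟩ := hle hα
  haveI := finite_of_le (sup_le hTS inf_le_left : T ⊔ centralizerIn S T ≤ S)
  obtain ⟨β, hβ, eβ⟩ := hW.exists_aut (img_eq_of_apply hW le_rfl
    (NormCent.mem_of_lift hW (fun x hx => eW x hx ▸ autFun_mem α hx) hWc))
  refine ⟨β, hβ, fun x => ?_, fun c hcc => ?_⟩
  · have h1 := (eβ _ (Subgroup.mem_sup_left x.2)).trans (eW x x.2)
    rw [autFun_apply α x, autFun_apply_mem β (Subgroup.mem_sup_left x.2)] at h1
    exact h1
  · rw [← autFun_apply β c, eβ _ c.2]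
    refine ⟨hWc _ hcc, ?_⟩
    have h1 := hW.mem_centralizerIn (P := T) le_sup_left c.2 hcc
    rw [img_congr eW, img_autFun] at h1
    exact ((centralizerIn S T).mul_mem ((centralizerIn S T).inv_mem hcc) h1).2

/-- The generated system is a central product. -/
theorem exists_central_product : ∃ D : FusionSystem (T₁ ⊔ T₂), D.IsNormalIn F p ∧
    IsCentralProductOf E₁ E₂ D :=
  ⟨_, famSystem_normal h hA₁ hA₂, isCentralProductOf_of_iff h.toComm hA₁ hA₂ fun _ _ =>
    (NFam.isMap_fam_iff h.fam_pair).trans (gen_iff h hA₁ hA₂)⟩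

end Main

/-- A normal subsystem on the product of two commuting normal subsystems. -/
theorem exists_normal_product (h : Pair F E₁ E₂ p) :
    ∃ D : FusionSystem (T₁ ⊔ T₂), D.IsNormalIn F p ∧
      (T₁ ⊓ T₂ ≤ E₁.center → T₁ ⊓ T₂ ≤ E₂.center → IsCentralProductOf E₁ E₂ D) := by
  by_cases hA : T₁ ⊓ T₂ ≤ E₁.center ∧ T₁ ⊓ T₂ ≤ E₂.center
  · obtain ⟨D, hD, hD'⟩ := exists_central_product h hA.1 hA.2
    exact ⟨D, hD, fun _ _ => hD'⟩
  · have hX := h.fam_pair
    haveI := finite_of_le hX.sc.1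
    have hTp : IsPGroup p (T₁ ⊔ T₂ : Subgroup Ω) :=
      h.pgroup.of_injective _ (Subgroup.inclusion_injective hX.sc.1)
    have hw := NFam.fam_weaklyNormal h.pgroup h.sat hX
    exact ⟨_, WeaklyNormal.residual_normal h.pgroup hw (PrimeIndex.residual_spec hTp hw.1),
      fun h₁ h₂ => absurd ⟨h₁, h₂⟩ hA⟩

/-- Central products of normal subsystems are normal. -/
theorem normal_of_centralProduct (h : Pair F E₁ E₂ p) {T : Subgroup Ω} {D : FusionSystem T}
    (hD : IsCentralProductOf E₁ E₂ D) (hA₂ : T₁ ⊓ T₂ ≤ E₂.center) : D.IsNormalIn F p := by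
  have hA₁ := inf_le_center_of_centralProduct h.toComm hD
  obtain ⟨rfl, hiff⟩ := isMap_of_centralProduct h.toComm hD
  obtain ⟨D', hD', hD''⟩ := exists_central_product h hA₁ hA₂
  have hiff' := (isMap_of_centralProduct h.toComm hD'').2
  have hHom : D.Hom = D'.Hom := funext fun P => Set.ext fun φ =>
    ⟨fun hφ => IsMap.mem_toFun' ((hiff' P _).mpr ((hiff P _).mp (isMap_of_mem hφ))),
      fun hφ => IsMap.mem_toFun' ((hiff P _).mpr ((hiff' P _).mp (isMap_of_mem hφ)))⟩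
  have e : D = D' := by
    cases D
    congr
  exact e ▸ hD'

end Cfsg.Lib.Fusion.CPair
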