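import Cfsg.Agent.Fusion.CentralPair.Split
import Cfsg.Agent.Fusion.NormalFamily.Builder
import Cfsg.Agent.Fusion.NormalExt.GoodExt
import Cfsg.Agent.Fusion.FactorHyperfocal

/-!
The normal family of two commuting normal subsystems on the product of their subgroups.
-/

set_option autoImplicit false
set_option linter.unusedSectionVars false
set_option linter.style.haveILetI false

namespace Cfsg.Lib.Fusion.CPair

open Cfsg Cfsg.FusionSystem Cfsg.Lib.Fusion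

universe u

variable {Ω : Type u} [Group Ω] {S T₁ T₂ : Subgroup Ω} {F : FusionSystem S}
  {E₁ : FusionSystem T₁} {E₂ : FusionSystem T₂} {p : ℕ}

/-- Two normal subsystems on commuting subgroups. -/
structure Pair (F : FusionSystem S) (E₁ : FusionSystem T₁) (E₂ : FusionSystem T₂) (p : ℕ) :
    Prop where
  pgroup : IsPGroup p S
  sat : F.IsSaturated p
  n₁ : E₁.IsNormalIn F p
  n₂ : E₂.IsNormalIn F p
  commute : ∀ a ∈ T₁, ∀ b ∈ T₂, a * b = b * a

/-- The subgroups of the product containing the centralizers of their conjugates. -/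
def members (F : FusionSystem S) (T₁ T₂ : Subgroup Ω) : Set (Subgroup Ω) :=
  {Q | Q ≤ T₁ ⊔ T₂ ∧ ∀ R, F.IsConj Q R → centralizerIn (T₁ ⊔ T₂) R ≤ R}

/-- An extension to the hull acting within both subsystems. -/
def Wit (F : FusionSystem S) (E₁ : FusionSystem T₁) (E₂ : FusionSystem T₂) (Q : Subgroup Ω)
    (f : Ω → Ω) : Prop :=
  ∃ k, IsMap F (hull T₁ T₂ Q) k ∧ (∀ x ∈ Q, k x = f x) ∧ IsMap E₁ (prj T₁ T₂ Q) k ∧
    IsMap E₂ (prj T₂ T₁ Q) k

/-- The automorphisms acting within both subsystems. -/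
def pairX (F : FusionSystem S) (E₁ : FusionSystem T₁) (E₂ : FusionSystem T₂) (Q : Subgroup Ω) :
    Subgroup (MulAut Q) :=
  Subgroup.closure {β | β ∈ F.autGroup Q ∧ Wit F E₁ E₂ Q (autFun β)}

/-- A subgroup of an abelian-by-coprime situation. -/
theorem mem_of_pow_of_coprime {G : Type*} [Group G] [Finite G] {p : ℕ} [Fact p.Prime]
    {N : Subgroup G} [N.Normal] {a b : G} {m : ℕ} (ha : a ∈ N) (hb : (orderOf b).Coprime p)
    (hd : (a⁻¹ * b) ^ p ^ m = 1) : b ∈ N := by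
  have h1 : QuotientGroup.mk' N b = QuotientGroup.mk' N (a⁻¹ * b) := by
    rw [map_mul, map_inv, show QuotientGroup.mk' N a = 1 from (QuotientGroup.eq_one_iff a).mpr ha,
      inv_one, one_mul]
  refine (QuotientGroup.eq_one_iff b).mp (show QuotientGroup.mk' N b = 1 from ?_)
  refine orderOf_eq_one_iff.mp (Nat.eq_one_of_dvd_coprimes (hb.pow_right m) ?_ ?_)
  · exact orderOf_map_dvd _ b
  · rw [h1]
    refine orderOf_dvd_of_pow_eq_one ?_
    rw [← map_pow, hd, map_one]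

namespace Pair

variable (h : Pair F E₁ E₂ p)
include h

theorem symm : Pair F E₂ E₁ p :=
  ⟨h.pgroup, h.sat, h.n₂, h.n₁, fun a ha b hb => (h.commute b hb a ha).symm⟩

theorem inv₁ : E₁.IsInvariantIn F := h.n₁.1.2.2

theorem inv₂ : E₂.IsInvariantIn F := h.n₂.1.2.2

theorem toComm : Comm F T₁ T₂ := ⟨h.inv₁.2.1, h.inv₂.2.1, h.commute⟩

variable [Finite S] [Fact p.Prime]

theorem map_T₂ {P : Subgroup Ω} {G : Ω → Ω} (hG : IsMap F (P ⊔ T₂) G) : img T₂ G = T₂ := by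
  haveI := finite_of_le h.inv₂.2.1.1
  exact img_eq_of_apply hG le_sup_right fun x hx =>
    stronglyClosed_apply h.inv₂.2.1 hG (Subgroup.mem_sup_right hx) hx

/-- Maps of the first subsystem extend along the second subgroup. -/
theorem lift₁ {P : Subgroup Ω} {r : Ω → Ω} (hr : IsMap E₁ P r) :
    ∃ G, IsMap F (P ⊔ T₂) G ∧ ∀ x ∈ P, G x = r x := by
  have hT₁ : T₁ ≤ S := h.inv₁.2.1.1
  have hT₂ : T₂ ≤ S := h.inv₂.2.1.1
  haveI := finite_of_le hT₁
  have hT₁p : IsPGroup p T₁ := h.pgroup.of_injective _ (Subgroup.inclusion_injective hT₁)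
  let Φ : Subgroup Ω → (Ω → Ω) → Prop := fun P r => ∃ G, IsMap F (P ⊔ T₂) G ∧ ∀ x ∈ P, G x = r x
  have hcls : IsMapClass E₁ Φ :=
    { conj := fun P g hP hg => ⟨_, isMap_conj (sup_le (hP.trans hT₁) hT₂) (hT₁ hg), fun _ _ => rfl⟩
      congr := fun P f f' _ e ⟨G, hG, eG⟩ => ⟨G, hG, fun x hx => (eG x hx).trans (e x hx).symm⟩
      mono := fun P R f _ hR ⟨G, hG, eG⟩ =>
        ⟨G, hG.mono (sup_le_sup_right hR T₂), fun x hx => eG x (hR hx)⟩
      comp := fun P R f g _ _ hfR ⟨G, hG, eG⟩ ⟨G', hG', eG'⟩ => by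
        refine ⟨G' ∘ G, hG.comp hG' (IsMap.img_le_iff.mp ?_), fun x hx => ?_⟩
        · rw [hG.img_sup, h.map_T₂ hG]
          exact sup_le_sup_right (IsMap.img_le_iff.mpr fun x hx => eG x hx ▸ hfR x hx) T₂
        · show G' (G x) = g (f x)
          rw [eG x hx, eG' _ (hfR x hx)]
      inv := fun P f g hf _ hl ⟨G, hG, eG⟩ => by
        obtain ⟨m, hm, -, hml, -⟩ := hG.exists_inv
        rw [hG.img_sup, h.map_T₂ hG, img_congr (f' := f) eG] at hm
        refine ⟨m, hm, fun y hy => ?_⟩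
        obtain ⟨x, hx, rfl⟩ := hf.mem_img.mp hy
        rw [hl x hx, ← eG x hx, hml x (Subgroup.mem_sup_left hx)] }
  have hgood : ∀ Q : Subgroup Ω, E₁.IsCentric Q → ∀ α ∈ E₁.autGroup Q, Φ Q (autFun α) :=
    fun Q hQ α hα => by
      obtain ⟨G, hG, eG, -⟩ := NExt.goodExt h.pgroup h.n₁ hQ α hα
      exact ⟨G, hG.mono (sup_le_sup_left (fun b hb => Fusion.mem_centralizerIn.mpr
        ⟨hT₂ hb, fun x hx => by rw [← h.commute x (hQ.1 hx) b hb, mul_inv_cancel_right]⟩) Q), eG⟩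
  refine alperin_radical hT₁p h.n₁.1.1 hcls (fun g hg => ?_)
    (fun Q _ _ hQc _ _ α hα => hgood Q hQc α hα) hr
  obtain ⟨α, hα, eα⟩ := hg.exists_aut (Subgroup.eq_of_le_of_card_ge hg.img_le hg.card_img.ge)
  exact hcls.congr T₁ _ g ((isMap_autFun le_rfl).mpr hα) (fun x hx => (eα x hx).symm)
    (hgood T₁ (CharSub.centric_top h.inv₁) α hα)

theorem members_up {Q R : Subgroup Ω} (hQ : Q ∈ members F T₁ T₂) (hQR : Q ≤ R)
    (hR : R ≤ T₁ ⊔ T₂) : R ∈ members F T₁ T₂ := by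
  refine ⟨hR, fun R' hR' => ?_⟩
  obtain ⟨f, hf, rfl⟩ := isConj_iff.mp hR'
  refine le_trans ?_ ((hQ.2 _ (isConj_iff.mpr ⟨f, hf.mono hQR, rfl⟩)).trans (img_mono hQR f))
  exact fun c hc => ⟨hc.1, Subgroup.centralizer_le (img_mono hQR f) hc.2⟩

theorem inf_le_member {Q : Subgroup Ω} (hQ : Q ∈ members F T₁ T₂) : T₁ ⊓ T₂ ≤ Q := fun z hz =>
  hQ.2 Q (isConj_refl (hQ.1.trans h.toComm.le_S))
    (Fusion.mem_centralizerIn.mpr ⟨Subgroup.mem_sup_left hz.1, fun x hx => by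
      rw [← h.toComm.inf_central hz (hQ.1 hx), mul_inv_cancel_right]⟩)

theorem hull_member {Q : Subgroup Ω} (hQ : Q ∈ members F T₁ T₂) :
    hull T₁ T₂ Q ∈ members F T₁ T₂ := h.members_up hQ (h.toComm.le_hull hQ.1) hull_le

/-- The projections of a member are centric. -/
theorem prj_centric {Q : Subgroup Ω} (hQ : Q ∈ members F T₁ T₂) :
    E₁.IsCentric (prj T₁ T₂ Q) := by
  have hc := h.toComm
  refine ⟨prj_le, fun R' hR' => ?_⟩
  obtain ⟨r, hr, rfl⟩ := isConj_iff.mp hR'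
  obtain ⟨G, hG, eG⟩ := h.lift₁ hr
  have hle : hull T₁ T₂ Q ≤ prj T₁ T₂ Q ⊔ T₂ := sup_le_sup_left prj_le _
  have hm := hG.mono hle
  have hmem := (h.hull_member hQ).2 _ (isConj_iff.mpr ⟨G, hm, rfl⟩)
  intro c hcc
  have hcG : c ∈ img (hull T₁ T₂ Q) G := by
    refine hmem (Fusion.mem_centralizerIn.mpr ⟨Subgroup.mem_sup_left hcc.1, fun y hy => ?_⟩)
    obtain ⟨x, hx, rfl⟩ := hm.mem_img.mp hy
    obtain ⟨a, ha, b, hb, rfl⟩ := hc.hull_decomp hx
    have hGb : G b ∈ T₂ :=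
      stronglyClosed_apply hc.sc₂ hG (Subgroup.mem_sup_right (prj_le hb)) (prj_le hb)
    rw [hm.map_mul (Subgroup.mem_sup_left ha) (Subgroup.mem_sup_right hb), eG a ha,
      show c * (r a * G b) * c⁻¹ = c * r a * c⁻¹ * (c * G b * c⁻¹) by group,
      (Fusion.mem_centralizerIn.mp hcc).2 _ (IsMap.apply_mem_img ha), h.commute c hcc.1 _ hGb,
      mul_inv_cancel_right]
  obtain ⟨x, hx, rfl⟩ := hm.mem_img.mp hcG
  obtain ⟨a, ha, b, hb, rfl⟩ := hc.hull_decomp hx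
  have hbP := prj_le hb
  have hab := hm.map_mul (Subgroup.mem_sup_left (T := prj T₂ T₁ Q) ha) (Subgroup.mem_sup_right hb)
  have hra : r a ∈ T₁ := hr.mem_S ha
  have hcc1 : G (a * b) ∈ T₁ := hcc.1
  rw [hab, eG a ha] at hcc1 ⊢
  have hGb : G b ∈ T₁ ⊓ T₂ := ⟨by simpa using T₁.mul_mem (T₁.inv_mem hra) hcc1,
    stronglyClosed_apply hc.sc₂ hG (Subgroup.mem_sup_right hbP) hbP⟩
  have hA : img (T₁ ⊓ T₂) r = T₁ ⊓ T₂ := by
    haveI := finite_of_le (S := S) (P := T₁ ⊓ T₂) (inf_le_left.trans hc.sc₁.1)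
    refine img_eq_of_apply (CharSub.isMap_of_sub h.inv₁.1 hr) inf_le_prj fun z hz => ⟨hr.mem_S (inf_le_prj hz), ?_⟩
    rw [← eG z (inf_le_prj hz)]
    exact stronglyClosed_apply hc.sc₂ hG (Subgroup.mem_sup_right hz.2) hz.2
  exact Subgroup.mul_mem _ (IsMap.apply_mem_img ha) (img_mono inf_le_prj r (hA.ge hGb))

theorem img_wit {Q : Subgroup Ω} (hQ : Q ≤ T₁ ⊔ T₂) {β : MulAut Q} {k : Ω → Ω}
    (hk : IsMap F (hull T₁ T₂ Q) k) (ek : ∀ x ∈ Q, k x = autFun β x) :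
    img (hull T₁ T₂ Q) k = hull T₁ T₂ Q ∧ img (prj T₁ T₂ Q) k = prj T₁ T₂ Q ∧
      img (prj T₂ T₁ Q) k = prj T₂ T₁ Q := by
  have hc := h.toComm
  have e : img Q k = Q := (img_congr ek).trans (img_autFun β)
  refine ⟨?_, ?_, ?_⟩
  · rw [hc.img_hull hQ hk, e]
  · rw [(hc.img_prj hQ hk).2, e]
  · rw [(hc.symm.img_prj (hQ.trans (sup_comm T₁ T₂).le) (by rw [hull_comm]; exact hk)).2, e]

theorem mem_pairX {Q : Subgroup Ω} (hQ : Q ≤ T₁ ⊔ T₂) {β : MulAut Q} :
    β ∈ pairX F E₁ E₂ Q ↔ β ∈ F.autGroup Q ∧ Wit F E₁ E₂ Q (autFun β) := by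
  refine ⟨fun hβ => ?_, fun hβ => Subgroup.subset_closure hβ⟩
  have hc := h.toComm
  induction hβ using Subgroup.closure_induction with
  | mem β hβ => exact hβ
  | one => exact ⟨one_mem _, id, isMap_id hc.hull_le_S, fun x hx => by rw [autFun_one hx]; rfl,
      isMap_id prj_le, isMap_id prj_le⟩
  | mul a b _ _ ha hb =>
    obtain ⟨haF, k, hk, ek, hk₁, hk₂⟩ := ha
    obtain ⟨hbF, l, hl, el, hl₁, hl₂⟩ := hb
    obtain ⟨i0, i1, i2⟩ := h.img_wit hQ hl el
    refine ⟨mul_mem haF hbF, k ∘ l, hl.comp hk fun x hx => i0.le (IsMap.apply_mem_img hx),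
      fun x hx => ?_, hl₁.comp hk₁ fun x hx => i1.le (IsMap.apply_mem_img hx),
      hl₂.comp hk₂ fun x hx => i2.le (IsMap.apply_mem_img hx)⟩
    show k (l x) = _
    rw [el x hx, ek _ (autFun_mem b hx), autFun_mul _ _ hx]
  | inv a _ ha =>
    obtain ⟨haF, k, hk, ek, hk₁, hk₂⟩ := ha
    obtain ⟨i0, i1, i2⟩ := h.img_wit hQ hk ek
    obtain ⟨m, hm, -, hml, -⟩ := hk.exists_inv
    obtain ⟨m₁, hm₁, -, hml₁, -⟩ := hk₁.exists_inv
    obtain ⟨m₂, hm₂, -, hml₂, -⟩ := hk₂.exists_inv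
    rw [i0] at hm
    rw [i1] at hm₁
    rw [i2] at hm₂
    refine ⟨Subgroup.inv_mem _ haF, m, hm, fun x hx => ?_, hm₁.congr fun y hy => ?_,
      hm₂.congr fun y hy => ?_⟩
    · conv_lhs => rw [← autFun_inv_apply a hx, ← ek _ (autFun_mem _ hx)]
      exact hml _ (hc.le_hull hQ (autFun_mem _ hx))
    · rw [← i1] at hy
      obtain ⟨x, hx, rfl⟩ := hk₁.mem_img.mp hy
      rw [hml₁ x hx, hml x (Subgroup.mem_sup_left hx)]
    · rw [← i2] at hy
      obtain ⟨x, hx, rfl⟩ := hk₂.mem_img.mp hy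
      rw [hml₂ x hx, hml x (Subgroup.mem_sup_right hx)]

theorem pairX_congr {Q R : Subgroup Ω} {f : Ω → Ω} (hf : IsMap F Q f) (hi : img Q f = R)
    (hQ : Q ≤ T₁ ⊔ T₂) {β : MulAut Q} (hβ : β ∈ pairX F E₁ E₂ Q) :
    MulAut.congr (hf.equiv hi) β ∈ pairX F E₁ E₂ R := by
  have hc := h.toComm
  obtain ⟨hβF, k, hk, ek, hk₁, hk₂⟩ := (h.mem_pairX hQ).mp hβ
  obtain ⟨i0, i1, i2⟩ := h.img_wit hQ hk ek
  obtain ⟨g, hg, eg⟩ := hc.exists_ext h.pgroup h.sat hQ hf
  have hgi : img Q g = R := (img_congr eg).trans hi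
  obtain ⟨hRT, hp₁⟩ := hc.img_prj hQ hg
  rw [hgi] at hRT hp₁
  have hp₂ := (hc.symm.img_prj (hQ.trans (sup_comm T₁ T₂).le) (by rw [hull_comm]; exact hg)).2
  rw [hgi] at hp₂
  have hh := hc.img_hull hQ hg
  rw [hgi] at hh
  obtain ⟨m, hm, hmi, hml, -⟩ := hg.exists_inv
  rw [hh] at hm hmi
  refine (h.mem_pairX hRT).mpr ⟨congr_mem_autGroup hf hi hβF, g ∘ (k ∘ m),
    (hm.comp hk fun y hy => hmi.le (IsMap.apply_mem_img hy)).comp hg fun y hy =>
      i0.le (IsMap.apply_mem_img (hmi.le (IsMap.apply_mem_img hy))), fun y hy => ?_, ?_, ?_⟩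
  · rw [← hi] at hy
    obtain ⟨x, hx, rfl⟩ := hf.mem_img.mp hy
    show g (k (m (f x))) = _
    rw [← eg x hx, hml x (hc.le_hull hQ hx), ek x hx, eg _ (autFun_mem β hx), eg x hx,
      congr_equiv_spec hf hi β hx]
  · have h1 := strongInv_of_invariant h.inv₁ _ _ le_rfl prj_le k hk₁
      (fun x hx => i1.le (IsMap.apply_mem_img hx)) g (hg.mono le_sup_left) (g ∘ (k ∘ m))
      fun x hx => by
        show g (k (m (g x))) = _
        rw [hml x (Subgroup.mem_sup_left hx)]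
    rwa [hp₁] at h1
  · have h1 := strongInv_of_invariant h.inv₂ _ _ le_rfl prj_le k hk₂
      (fun x hx => i2.le (IsMap.apply_mem_img hx)) g (hg.mono le_sup_right) (g ∘ (k ∘ m))
      fun x hx => by
        show g (k (m (g x))) = _
        rw [hml x (Subgroup.mem_sup_right hx)]
    rwa [hp₂] at h1

theorem prj_eq_of_split {M : Subgroup Ω} (hM : hull T₁ T₂ M = M) : prj T₁ T₂ M = M ⊓ T₁ :=
  le_antisymm (le_inf (le_sup_left.trans hM.le) prj_le) (inf_le_inf_right T₁ le_sup_left)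

/-- A `p`-element induced on the first projection. -/
theorem split_induced {M : Subgroup Ω} (_hMT : M ≤ T₁ ⊔ T₂) (hM : hull T₁ T₂ M = M)
    (hn : F.IsFullyNormalized M) {s : Ω} (hs : s ∈ normalizerIn S M)
    (hd : IsMap E₁ (prj T₁ T₂ M) (fun x => s * x * s⁻¹)) :
    ∃ t ∈ T₁, ∀ x ∈ prj T₁ T₂ M, s * x * s⁻¹ = t * x * t⁻¹ := by
  have hc := h.toComm
  set M₁ := prj T₁ T₂ M with hM₁
  have hM₁e : M₁ = M ⊓ T₁ := h.prj_eq_of_split hM
  have hT₁ : T₁ ≤ S := hc.sc₁.1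
  haveI := finite_of_le hT₁
  haveI := finite_of_le (hM₁ ▸ prj_le : M₁ ≤ T₁)
  have hN : normalizerIn S M ≤ Subgroup.normalizer (M₁ : Set Ω) := fun g hg => by
    haveI := finite_of_le hn.1
    refine mem_normalizer_of_maps_finite fun x hx => ?_
    rw [hM₁e] at hx ⊢
    exact ⟨conj_mem_of_mem_normalizer hg.2 hx.1,
      conj_mem_of_mem_normalizer (normalizes_of_stronglyClosed hc.sc₁ hg.1) hx.2⟩
  have hT₁N : ∀ {M' : Subgroup Ω}, ∀ t ∈ normalizerIn T₁ M', ∀ {b : Ω}, b ∈ T₂ →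
      t * b * t⁻¹ = b := fun t ht b hb => by rw [h.commute t ht.1 b hb, mul_inv_cancel_right]
  -- the projection is fully normalized in the first subsystem
  have hM₁n : E₁.IsFullyNormalized M₁ := by
    refine ⟨prj_le, fun R' hR' => ?_⟩
    obtain ⟨r, hr, rfl⟩ := isConj_iff.mp hR'
    obtain ⟨G, hG, eG⟩ := h.lift₁ hr
    have hm : IsMap F M G := hG.mono (hM.ge.trans (sup_le_sup_left prj_le _))
    obtain ⟨f, hf, hfi⟩ := isConj_iff.mp (isConj_symm (isConj_iff.mpr ⟨G, hm, rfl⟩ :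
      F.IsConj M (img M G)))
    obtain ⟨-, hfa, hrec⟩ := fullyNormalized_props h.pgroup h.sat hn
    obtain ⟨-, -, k, hk, hki, -, hkN⟩ := exists_map_normalizer h.pgroup hfa hrec hf hfi
    have hsub : normalizerIn T₁ (img M₁ r) ≤ normalizerIn S (img M G) := fun t ht => by
      haveI := finite_of_le hn.1
      haveI := finite_of_le hm.img_le
      refine ⟨hT₁ ht.1, mem_normalizer_of_maps_finite fun y hy => ?_⟩
      obtain ⟨x, hx, rfl⟩ := hm.mem_img.mp hy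
      obtain ⟨a, ha, b, hb, rfl⟩ := hc.hull_decomp (hM.ge hx)
      have haM : a ∈ M := hM.le (Subgroup.mem_sup_left ha)
      have hbM : b ∈ M := hM.le (Subgroup.mem_sup_right hb)
      rw [hm.map_mul haM hbM, eG a ha, show t * (r a * G b) * t⁻¹ = t * r a * t⁻¹ * (t * G b * t⁻¹)
        by group, hT₁N t ht (stronglyClosed_apply hc.sc₂ hm hbM (prj_le hb))]
      refine Subgroup.mul_mem _ ?_ (IsMap.apply_mem_img hbM)
      obtain ⟨a', ha', e⟩ := hr.mem_img.mp (conj_mem_of_mem_normalizer ht.2 (IsMap.apply_mem_img ha))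
      rw [← e, ← eG a' ha']
      exact IsMap.apply_mem_img (hM.le (Subgroup.mem_sup_left ha'))
    haveI : Finite (normalizerIn S (img M G)) := finite_of_le inf_le_left
    refine card_le_of_isMap (hk.mono hsub) le_rfl (inf_le_left.trans hT₁) fun t ht => ?_
    exact ⟨stronglyClosed_apply hc.sc₁ hk (hsub ht) ht.1, hN (hkN t (hsub ht))⟩
  have hT₁p : IsPGroup p T₁ := h.pgroup.of_injective _ (Subgroup.inclusion_injective hT₁)
  have hfaD := (fullyNormalized_props hT₁p h.n₁.1.1 hM₁n).2.1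
  set U := autInducedBy T₁ M₁
  set W := autInducedBy (normalizerIn S M) M₁ ⊓ E₁.autGroup M₁
  have hUW : U ≤ W := fun α hα => by
    obtain ⟨t, ht, et⟩ := mem_autInducedBy.mp hα
    refine ⟨mem_autInducedBy.mpr ⟨t, ⟨hT₁ ht, ?_⟩, et⟩, autInducedBy_le prj_le hα⟩
    haveI := finite_of_le hn.1
    refine mem_normalizer_of_maps_finite fun y hy => ?_
    obtain ⟨a, ha, b, hb, rfl⟩ := hc.hull_decomp (hM.ge hy)
    rw [show t * (a * b) * t⁻¹ = t * a * t⁻¹ * (t * b * t⁻¹) by group,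
      h.commute t ht b (prj_le hb), mul_inv_cancel_right]
    exact Subgroup.mul_mem _ (hM.le (Subgroup.mem_sup_left (conj_mem_of_mem_normalizer
      (NFam.mem_normalizer_of_induced et) ha))) (hM.le (Subgroup.mem_sup_right hb))
  have hWp : IsPGroup p W := by
    have : IsPGroup p (autInducedBy S M₁) := isPGroup_autInducedBy h.pgroup M₁
    exact this.to_le (inf_le_left.trans (autInducedBy_mono inf_le_left))
  haveI : Finite (MulAut M₁) := NormCent.finite_mulAut M₁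
  have hWU : W = U := by
    refine (Subgroup.eq_of_le_of_card_ge hUW ?_).symm
    obtain ⟨χ, -, hχ⟩ := exists_conj_into_autS hfaD hWp inf_le_right
    exact Nat.card_le_card_of_injective (fun v => (⟨χ * v * χ⁻¹, hχ v v.2⟩ : U))
      fun a b hab => Subtype.ext (mul_left_cancel (mul_right_cancel
        (congrArg (fun z : U => (z : MulAut M₁)) hab)))
  have hsW : conjAut M₁ s (hN hs) ∈ W := ⟨conjAut_mem_autInducedBy _ hs,
    (isMap_autFun prj_le).mp (hd.congr fun x hx => by rw [autFun_apply_mem _ hx, conjAut_apply])⟩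
  obtain ⟨t, ht, et⟩ := mem_autInducedBy.mp (hWU.le hsW)
  exact ⟨t, ht, fun x hx => by
    have := et ⟨x, hx⟩
    rwa [conjAut_apply] at this⟩

/-- The Sylow condition. -/
theorem pairX_syl {Q : Subgroup Ω} (hQ : Q ∈ members F T₁ T₂) (hn : F.IsFullyNormalized Q) :
    pairX F E₁ E₂ Q ⊓ autInducedBy S Q ≤ autInducedBy (T₁ ⊔ T₂) Q := by
  rintro x ⟨hx, hxS⟩
  have hc := h.toComm
  have hQS : Q ≤ S := hn.1
  haveI := finite_of_le hQS
  obtain ⟨-, k, hk, ek, hk₁, hk₂⟩ := (h.mem_pairX hQ.1).mp hx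
  obtain ⟨i0, i1, i2⟩ := h.img_wit hQ.1 hk ek
  set H := hull T₁ T₂ Q with hH
  have hHS : H ≤ S := hc.hull_le_S
  haveI := finite_of_le hHS
  haveI : Finite (MulAut H) := NormCent.finite_mulAut H
  have hQH : Q ≤ H := hc.le_hull hQ.1
  obtain ⟨κ, hκ, eκ⟩ := hk.exists_aut i0
  obtain ⟨a, b, ha, hb, hab, ⟨j, hj⟩, hbcop⟩ := Cfsg.Lib.Transfer.exists_pPart p κ
  have hmem : ∀ {e : ℕ}, κ ^ e ∈ Subgroup.zpowers κ := fun {e} =>
    Subgroup.pow_mem _ (Subgroup.mem_zpowers κ) e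
  obtain ⟨i, rfl⟩ := (mem_powers_iff_mem_zpowers (x := κ) (y := a)).mpr ha
  obtain ⟨l, rfl⟩ := (mem_powers_iff_mem_zpowers (x := κ) (y := b)).mpr hb
  have hres : ∀ e : ℕ, ∀ y ∈ Q, autFun (κ ^ e) y = autFun (x ^ e) y := by
    intro e
    induction e with
    | zero => intro y hy; rw [pow_zero, pow_zero, autFun_one hy, autFun_one (hQH hy)]
    | succ e ih =>
      intro y hy
      rw [pow_succ', pow_succ', autFun_mul _ _ hy, autFun_mul _ _ (hQH hy), ih y hy,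
        eκ _ (hQH (autFun_mem _ hy)), ek _ (autFun_mem _ hy)]
  have hxl : x ^ l = 1 := by
    obtain ⟨m, hm⟩ := isPGroup_autInducedBy h.pgroup Q ⟨x, hxS⟩
    have hm' : x ^ p ^ m = 1 := congrArg Subtype.val hm
    refine orderOf_eq_one_iff.mp (Nat.eq_one_of_dvd_coprimes (hbcop.pow_right m) ?_ ?_)
    · refine orderOf_dvd_of_pow_eq_one (NFam.eq_of_autFun fun y hy => ?_)
      rw [← pow_mul, ← hres _ y hy, pow_mul, pow_orderOf_eq_one, autFun_one (hQH hy), autFun_one hy]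
    · exact orderOf_dvd_of_pow_eq_one (by rw [← pow_mul, mul_comm, pow_mul, hm', one_pow])
  have hxi : ∀ y ∈ Q, autFun (κ ^ i) y = autFun x y := fun y hy => by
    rw [← ek y hy, ← eκ y (hQH hy)]
    conv_rhs => rw [← hab]
    rw [autFun_mul _ _ (hQH hy), hres l y hy, hxl, autFun_one hy]
  have hκX : κ ^ i ∈ pairX F E₁ E₂ H := by
    refine pow_mem ((h.mem_pairX hull_le).mpr ⟨hκ, autFun κ, ?_, fun _ _ => rfl, ?_, ?_⟩) i
    · exact ((isMap_autFun hHS).mpr hκ).mono (hc.hull_hull hQ.1).le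
    · exact (hk₁.congr fun y hy => eκ y (Subgroup.mem_sup_left hy)).mono (hc.prj_hull hQ.1).le
    · exact (hk₂.congr fun y hy => eκ y (Subgroup.mem_sup_right hy)).mono (hc.prj_hull' hQ.1).le
  -- move the hull to a fully normalized subgroup
  obtain ⟨M, hHM, hMn⟩ := exists_fullyNormalized (F := F) hHS
  obtain ⟨f, hf, hfi⟩ := isConj_iff.mp hHM
  obtain ⟨-, hfa, -⟩ := fullyNormalized_props h.pgroup h.sat hMn
  set α := MulAut.congr (hf.equiv hfi) (κ ^ i)
  have hα : α ∈ pairX F E₁ E₂ M := h.pairX_congr hf hfi hull_le hκX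
  have hMT : M ≤ T₁ ⊔ T₂ := hfi ▸ IsMap.img_le_iff.mpr fun y hy =>
    stronglyClosed_apply (hc.stronglyClosed_sup h.pgroup h.sat) hf hy (hull_le hy)
  have hMh : hull T₁ T₂ M = M := by
    obtain ⟨k', hk', ek'⟩ := hc.exists_ext h.pgroup h.sat (Q := H) hull_le hf
    have hhH : hull T₁ T₂ H = H := hc.hull_hull hQ.1
    have h1 := hc.img_hull (Q := H) hull_le hk'
    rw [img_congr (f' := f) ek', hfi, hhH, img_congr (f' := f) ek', hfi] at h1
    exact h1.symm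
  haveI := finite_of_le hMn.1
  haveI : Finite (MulAut M) := NormCent.finite_mulAut M
  have hαp : IsPGroup p (Subgroup.zpowers α) := by
    refine IsPGroup.of_card (n := j) ?_
    rw [Nat.card_zpowers, MulEquiv.orderOf_eq, hj]
  obtain ⟨μ, hμ, hμS⟩ := exists_conj_into_autS hfa hαp
    (Subgroup.zpowers_le.mpr ((h.mem_pairX hMT).mp hα).1)
  have hμm := (isMap_autFun hMn.1).mpr hμ
  have hγ : μ * α * μ⁻¹ ∈ pairX F E₁ E₂ M := by
    rw [← NFam.congr_aut (β := α) hμm]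
    exact h.pairX_congr hμm (img_autFun μ) hMT hα
  obtain ⟨s, hs, es⟩ := mem_autInducedBy.mp (hμS α (Subgroup.mem_zpowers α))
  obtain ⟨-, g, hg, eg, hg₁, hg₂⟩ := (h.mem_pairX hMT).mp hγ
  have hsn : s ∈ normalizerIn S M := ⟨hs, NFam.mem_normalizer_of_induced es⟩
  have hgs : ∀ y ∈ M, g y = s * y * s⁻¹ := fun y hy => by
    rw [eg y hy, autFun_apply_mem _ hy]
    exact es ⟨y, hy⟩
  have hP₁ : prj T₁ T₂ M ≤ M := le_sup_left.trans hMh.le
  have hP₂ : prj T₂ T₁ M ≤ M := le_sup_right.trans hMh.le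
  obtain ⟨t₁, ht₁, e₁⟩ := h.split_induced hMT hMh hMn hsn
    (hg₁.congr fun y hy => (hgs y (hP₁ hy)).symm)
  obtain ⟨t₂, ht₂, e₂⟩ := h.symm.split_induced (hMT.trans (sup_comm T₁ T₂).le)
    (hull_comm.trans hMh) hMn hsn (hg₂.congr fun y hy => (hgs y (hP₂ hy)).symm)
  have htT : t₁ * t₂ ∈ T₁ ⊔ T₂ :=
    Subgroup.mul_mem _ (Subgroup.mem_sup_left ht₁) (Subgroup.mem_sup_right ht₂)
  have hst : ∀ y ∈ M, autFun (μ * α * μ⁻¹) y = t₁ * t₂ * y * (t₁ * t₂)⁻¹ := fun y hy => by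
    rw [autFun_apply_mem _ hy]
    refine (es ⟨y, hy⟩).trans ?_
    show s * y * s⁻¹ = _
    obtain ⟨u, hu, w, hw, rfl⟩ := hc.hull_decomp (hMh.ge hy)
    have hu2 : t₂ * u * t₂⁻¹ = u := by rw [← h.commute u (prj_le hu) t₂ ht₂, mul_inv_cancel_right]
    have hw1 : t₁ * (t₂ * w * t₂⁻¹) * t₁⁻¹ = t₂ * w * t₂⁻¹ := by
      rw [h.commute t₁ ht₁ _ (T₂.mul_mem (T₂.mul_mem ht₂ (prj_le hw)) (T₂.inv_mem ht₂)),
        mul_inv_cancel_right]
    calc s * (u * w) * s⁻¹ = s * u * s⁻¹ * (s * w * s⁻¹) := by group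
      _ = t₁ * (t₂ * u * t₂⁻¹) * t₁⁻¹ * (t₁ * (t₂ * w * t₂⁻¹) * t₁⁻¹) := by
        rw [e₁ u hu, e₂ w hw, hu2, hw1]
      _ = t₁ * t₂ * (u * w) * (t₁ * t₂)⁻¹ := by group
  -- `x` is a translate
  refine NFam.mem_induced_of_transl h.pgroup h.sat (hc.stronglyClosed_sup h.pgroup h.sat) hn ?_ hxS
  have hfM : ∀ y ∈ H, f y ∈ M := fun y hy => hfi ▸ IsMap.apply_mem_img hy
  set f' := autFun μ ∘ f
  have hf' : IsMap F H f' := hf.comp hμm hfM
  have key : ∀ y ∈ Q, f' (autFun x y) = t₁ * t₂ * f' y * (t₁ * t₂)⁻¹ := fun y hy => by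
    show autFun μ (f (autFun x y)) = _
    rw [← hxi y hy, ← congr_equiv_spec hf hfi _ (hQH hy)]
    show autFun μ (autFun α (f y)) = t₁ * t₂ * autFun μ (f y) * (t₁ * t₂)⁻¹
    rw [← hst _ (autFun_mem μ (hfM y (hQH hy))), ← autFun_mul _ μ (hfM y (hQH hy)),
      inv_mul_cancel_right, autFun_mul _ _ (hfM y (hQH hy))]
  have hfQ := hf'.mono hQH
  set P := img Q f'
  have htP : t₁ * t₂ ∈ Subgroup.normalizer (P : Set Ω) := by
    haveI := finite_of_le hfQ.img_le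
    refine mem_normalizer_of_maps_finite fun z hz => ?_
    obtain ⟨y, hy, rfl⟩ := hfQ.mem_img.mp hz
    rw [← key y hy]
    exact IsMap.apply_mem_img (autFun_mem _ hy)
  obtain ⟨m, hm, hmi, hml, -⟩ := hfQ.exists_inv
  refine ⟨P, m, hm, hmi, (IsMap.img_le_iff.mpr fun y hy => ?_), t₁ * t₂, ⟨htT, htP⟩, fun z hz => ?_⟩
  · exact stronglyClosed_apply (hc.stronglyClosed_sup h.pgroup h.sat) hfQ hy (hQ.1 hy)
  · obtain ⟨y, hy, rfl⟩ := hfQ.mem_img.mp hz
    rw [hml y hy, ← key y hy, hml _ (autFun_mem _ hy)]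

/-- The extension condition in one factor. -/
theorem ext_factor {Q R : Subgroup Ω} (hQ : Q ∈ members F T₁ T₂) (hQR : Q ≤ R)
    (hR : R ≤ T₁ ⊔ T₂) {κ : MulAut (hull T₁ T₂ R)} (hκ : κ ∈ F.autGroup (hull T₁ T₂ R))
    (hcop : (orderOf κ).Coprime p) (hst : ∀ x ∈ Q, autFun κ x ∈ Q) {k : Ω → Ω}
    (hk : IsMap F (hull T₁ T₂ Q) k) (ek : ∀ x ∈ Q, k x = autFun κ x)
    (hk₁ : IsMap E₁ (prj T₁ T₂ Q) k) : IsMap E₁ (prj T₁ T₂ R) (autFun κ) := by
  have hc := h.toComm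
  have hRS : hull T₁ T₂ R ≤ S := hc.hull_le_S
  haveI := finite_of_le hRS
  have hm := (isMap_autFun hRS).mpr hκ
  set P := prj T₁ T₂ Q
  set B := prj T₁ T₂ R
  have hQS : Q ≤ S := hQ.1.trans hc.le_S
  haveI := finite_of_le hQS
  have hPB : P ≤ B := prj_mono hQR
  have hBT : B ≤ T₁ := prj_le
  have hBH : B ≤ hull T₁ T₂ R := le_sup_left
  have hBS : B ≤ S := hc.prj_le_S
  have hPS : P ≤ S := hc.prj_le_S
  have hPT : P ≤ T₁ := prj_le
  haveI := finite_of_le hBS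
  haveI := finite_of_le hPS
  -- the restrictions to the projections
  have hQH : hull T₁ T₂ Q ≤ hull T₁ T₂ R := hull_mono hQR
  have hκQ : img Q (autFun κ) = Q :=
    img_eq_of_apply (hm.mono (hQR.trans (hc.le_hull hR))) le_rfl hst
  have hκP : img P (autFun κ) = P := by
    rw [(hc.img_prj hQ.1 (hm.mono hQH)).2, hκQ]
  have hkP : img P k = P := by
    rw [(hc.img_prj hQ.1 hk).2, img_congr ek, hκQ]
  have hκB : img B (autFun κ) = B := by
    have e : img (hull T₁ T₂ R) (autFun κ) = hull T₁ T₂ R := img_autFun κ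
    have h1 := (hc.img_prj (hull_le (T₁ := T₁) (T₂ := T₂) (Q := R))
      (hm.mono (hc.hull_hull hR).le)).2
    rwa [hc.prj_hull hR, e, hc.prj_hull hR] at h1
  obtain ⟨μ, hμ, eμ⟩ := (hm.mono hBH).exists_aut hκB
  have hPH : P ≤ hull T₁ T₂ Q := le_sup_left
  obtain ⟨a, ha, ea⟩ := hk₁.exists_aut hkP
  obtain ⟨b, hb, eb⟩ := (hm.mono (hPH.trans hQH)).exists_aut hκP
  have hpowμ : ∀ i : ℕ, ∀ x ∈ B, autFun (μ ^ i) x = autFun (κ ^ i) x := by
    intro i
    induction i with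
    | zero => intro x hx; rw [pow_zero, pow_zero, autFun_one hx, autFun_one (hBH hx)]
    | succ i ih =>
      intro x hx
      rw [pow_succ', pow_succ', autFun_mul _ _ hx, autFun_mul _ _ (hBH hx),
        eμ _ (autFun_mem _ hx), ih x hx]
  have hμc : (orderOf μ).Coprime p := hcop.coprime_dvd_left
    (orderOf_dvd_of_pow_eq_one (NFam.eq_of_autFun fun x hx => by
      rw [hpowμ _ x hx, pow_orderOf_eq_one, autFun_one (hBH hx), autFun_one hx]))
  have hbc : (orderOf b).Coprime p := by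
    have hpowb : ∀ i : ℕ, ∀ x ∈ P, autFun (b ^ i) x = autFun (κ ^ i) x := by
      intro i
      induction i with
      | zero => intro x hx; rw [pow_zero, pow_zero, autFun_one hx, autFun_one (hQH (hPH hx))]
      | succ i ih =>
        intro x hx
        rw [pow_succ', pow_succ', autFun_mul _ _ hx, autFun_mul _ _ (hQH (hPH hx)),
          eb _ (autFun_mem _ hx), ih x hx]
    exact hcop.coprime_dvd_left (orderOf_dvd_of_pow_eq_one (NFam.eq_of_autFun fun x hx => by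
      rw [hpowb _ x hx, pow_orderOf_eq_one, autFun_one (hQH (hPH hx)), autFun_one hx]))
  have hAQ := h.inf_le_member hQ
  have hAP : T₁ ⊓ T₂ ≤ P := inf_le_prj
  have haF : a ∈ F.autGroup P := (isMap_autFun hPS).mp
    ((CharSub.isMap_of_sub h.inv₁.1 hk₁).congr ea)
  -- the difference is trivial on `T₁ ⊓ T₂` and modulo it
  set d := a⁻¹ * b
  have hdF : d ∈ F.autGroup P := mul_mem (Subgroup.inv_mem _ haF) hb
  have hdA : ∀ z ∈ T₁ ⊓ T₂, autFun d z = z := fun z hz => by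
    rw [autFun_mul _ _ (hAP hz), eb z (hAP hz), ← ek z (hAQ hz), ← ea z (hAP hz)]
    exact autFun_inv_apply' a (hAP hz)
  have hdmod : ∀ x ∈ P, x⁻¹ * autFun d x ∈ T₁ ⊓ T₂ := fun x hx => by
    obtain ⟨hxT, y, hy, hxy⟩ := (hc.mem_prj hQ.1).mp hx
    have hxyT₂ : y ∈ prj T₂ T₁ Q := (hc.symm.mem_prj (hQ.1.trans (sup_comm T₁ T₂).le)).mpr
      ⟨hy, x, hxT, h.commute x hxT y hy ▸ hxy⟩
    have h1 := ek _ hxy
    rw [hk.map_mul (hPH hx) (Subgroup.mem_sup_right hxyT₂),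
      hm.map_mul (hQH (hPH hx)) (hQH (Subgroup.mem_sup_right hxyT₂))] at h1
    have hkx : k x ∈ P := hkP.le (IsMap.apply_mem_img hx)
    have hκx : autFun κ x ∈ P := hκP.le (IsMap.apply_mem_img hx)
    have hw : (k x)⁻¹ * autFun κ x ∈ T₁ ⊓ T₂ := by
      refine ⟨T₁.mul_mem (T₁.inv_mem (hPT hkx)) (hPT hκx), ?_⟩
      rw [show (k x)⁻¹ * autFun κ x = k y * (autFun κ y)⁻¹ by
        calc (k x)⁻¹ * autFun κ x = (k x)⁻¹ * (autFun κ x * autFun κ y) * (autFun κ y)⁻¹ := by group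
          _ = k y * (autFun κ y)⁻¹ := by rw [← h1]; group]
      exact T₂.mul_mem (stronglyClosed_apply hc.sc₂ hk (Subgroup.mem_sup_right hxyT₂) hy)
        (T₂.inv_mem (stronglyClosed_apply hc.sc₂ hm (hQH (Subgroup.mem_sup_right hxyT₂)) hy))
    have hwP := hAP hw
    have hmi := (isMap_autFun hPS).mpr (Subgroup.inv_mem _ haF)
    rw [autFun_mul _ _ hx, eb x hx]
    have h2 : autFun a⁻¹ (autFun κ x) = x * autFun a⁻¹ ((k x)⁻¹ * autFun κ x) := by
      conv_lhs => rw [show autFun κ x = k x * ((k x)⁻¹ * autFun κ x) by group]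
      rw [hmi.map_mul hkx hwP, ← ea x hx, autFun_inv_apply' a hx]
    rw [h2, inv_mul_cancel_left]
    exact ⟨stronglyClosed_apply hc.sc₁ hmi hwP hw.1, stronglyClosed_apply hc.sc₂ hmi hwP hw.2⟩
  obtain ⟨m, hm'⟩ := IsPGroup.iff_card.mp (h.pgroup.of_injective _ (Subgroup.inclusion_injective hPS))
  have hd : d ^ p ^ m = 1 := NFam.eq_of_autFun fun x hx => by
    have hz := hdmod x hx
    set z := x⁻¹ * autFun d x with hzdef
    have hdm := (isMap_autFun hPS).mpr hdF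
    have hpow : ∀ i : ℕ, autFun (d ^ i) x = x * z ^ i := by
      intro i
      induction i with
      | zero => rw [pow_zero, autFun_one hx, pow_zero, mul_one]
      | succ i ih =>
        rw [pow_succ', autFun_mul _ _ hx, ih, hdm.map_mul hx (P.pow_mem (hAP hz) i),
          hdm.map_pow (hAP hz), hdA z hz, pow_succ', ← mul_assoc]
        simp only [hzdef, mul_inv_cancel_left]
    have h2 : (⟨z, hAP hz⟩ : P) ^ Nat.card P = 1 := pow_card_eq_one'
    rw [hpow, ← hm', show z ^ Nat.card P = 1 from congrArg Subtype.val h2, mul_one, autFun_one hx]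
  haveI : Finite (MulAut P) := NormCent.finite_mulAut P
  set A := F.autGroup P
  have hXA : E₁.autGroup P ≤ A := PPower.autGroup_le_of_sub h.inv₁.1 hPT hc.sc₁.1
  haveI : ((E₁.autGroup P).subgroupOf A).Normal := ⟨fun x hx g => by
    have hg := (isMap_autFun hPS).mpr g.2
    show (g : MulAut P) * x * (g : MulAut P)⁻¹ ∈ E₁.autGroup P
    rw [← NFam.congr_aut (β := (x : MulAut P)) hg]
    exact NormCent.congr_mem_sub h.inv₁ hPT hg (img_autFun _) hx⟩
  have hbE : b ∈ E₁.autGroup P := mem_of_pow_of_coprime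
    (N := (E₁.autGroup P).subgroupOf A) (a := ⟨a, haF⟩) (b := ⟨b, hb⟩) (m := m) ha
    (by rwa [← Subgroup.orderOf_coe]) (Subtype.ext hd)
  have hPst : ∀ x ∈ P, autFun μ x ∈ P := fun x hx => by
    rw [eμ x (hPB hx), ← eb x hx]
    exact autFun_mem b hx
  have hμP : IsMap E₁ P (autFun μ) := ((isMap_autFun hPT).mpr hbE).congr fun x hx => by
    rw [eμ x (hPB hx), eb x hx]
  have := NExt.mem_of_restrict_centric h.pgroup h.n₁.1 hBT hμ hμc (h.prj_centric hQ) hPB hPst hμP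
  exact ((isMap_autFun hBT).mpr this).congr fun x hx => (eμ x hx).symm

/-- The extension condition. -/
theorem pairX_ext {Q R : Subgroup Ω} (hQ : Q ∈ members F T₁ T₂) (hQR : Q ≤ R)
    (hR : R ≤ T₁ ⊔ T₂) {β : MulAut R} (hβ : β ∈ F.autGroup R) (hcop : (orderOf β).Coprime p)
    {γ : MulAut Q} (hγ : γ ∈ pairX F E₁ E₂ Q) (e : ∀ x ∈ Q, autFun γ x = autFun β x) :
    β ∈ pairX F E₁ E₂ R := by
  have hc := h.toComm
  have hRS : R ≤ S := hR.trans hc.le_S
  haveI := finite_of_le hRS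
  obtain ⟨l, hl, el⟩ := hc.exists_ext h.pgroup h.sat hR ((isMap_autFun hRS).mpr hβ)
  have hRH := hc.le_hull hR
  haveI := finite_of_le (hc.hull_le_S (Q := R))
  have i0 : img (hull T₁ T₂ R) l = hull T₁ T₂ R := by
    rw [hc.img_hull hR hl, img_congr el, img_autFun]
  obtain ⟨κ, hκ, eκ⟩ := hl.exists_aut i0
  obtain ⟨n, hn, hβn⟩ := exists_coprime_power κ (β := β) hcop
  have hres : ∀ i : ℕ, ∀ x ∈ R, autFun (κ ^ i) x = autFun (β ^ i) x := by
    intro i
    induction i with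
    | zero => intro x hx; rw [pow_zero, pow_zero, autFun_one hx, autFun_one (hRH hx)]
    | succ i ih =>
      intro x hx
      rw [pow_succ', pow_succ', autFun_mul _ _ hx, autFun_mul _ _ (hRH hx), ih x hx,
        eκ _ (hRH (autFun_mem _ hx)), el _ (autFun_mem _ hx)]
  have hκR : ∀ x ∈ R, autFun (κ ^ n) x = autFun β x := fun x hx => by rw [hres n x hx, hβn]
  obtain ⟨-, k, hk, ek, hk₁, hk₂⟩ := (h.mem_pairX hQ.1).mp hγ
  have hst : ∀ x ∈ Q, autFun (κ ^ n) x ∈ Q := fun x hx => by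
    rw [hκR x (hQR hx), ← e x hx]
    exact autFun_mem γ hx
  have ek' : ∀ x ∈ Q, k x = autFun (κ ^ n) x := fun x hx => by
    rw [ek x hx, hκR x (hQR hx), e x hx]
  have hκn := Subgroup.pow_mem _ hκ n
  refine (h.mem_pairX hR).mpr ⟨hβ, autFun (κ ^ n), (isMap_autFun hc.hull_le_S).mpr hκn, hκR,
    h.ext_factor hQ hQR hR hκn hn hst hk ek' hk₁, ?_⟩
  have hQ' : Q ∈ members F T₂ T₁ := by
    refine ⟨hQ.1.trans (sup_comm T₁ T₂).le, fun R' hR' => ?_⟩
    rw [sup_comm T₂ T₁]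
    exact hQ.2 R' hR'
  -- the same argument in the other factor
  have hH : hull T₂ T₁ R = hull T₁ T₂ R := hull_comm
  obtain ⟨κ', hκ', eκ'⟩ := (show IsMap F (hull T₂ T₁ R) (autFun (κ ^ n)) by
      rw [hH]; exact (isMap_autFun hc.hull_le_S).mpr hκn).exists_aut
    (show img (hull T₂ T₁ R) (autFun (κ ^ n)) = hull T₂ T₁ R by rw [hH]; exact img_autFun _)
  have hn' : (orderOf κ').Coprime p := by
    refine hn.coprime_dvd_left (orderOf_dvd_of_pow_eq_one (NFam.eq_of_autFun fun x hx => ?_))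
    have hx' : x ∈ hull T₁ T₂ R := hH.le hx
    have hpow : ∀ i : ℕ, ∀ y ∈ hull T₂ T₁ R, autFun (κ' ^ i) y = autFun ((κ ^ n) ^ i) y := by
      intro i
      induction i with
      | zero => intro y hy; rw [pow_zero, pow_zero, autFun_one hy, autFun_one (hH.le hy)]
      | succ i ih =>
        intro y hy
        rw [pow_succ', pow_succ', autFun_mul _ _ hy, autFun_mul _ _ (hH.le hy),
          eκ' _ (autFun_mem _ hy), ih y hy]
    rw [hpow _ x hx, pow_orderOf_eq_one, autFun_one hx', autFun_one hx]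
  have hQR' : ∀ x ∈ Q, x ∈ hull T₂ T₁ R := fun x hx => hH.ge (hRH (hQR hx))
  refine (h.symm.ext_factor hQ' hQR (hR.trans (sup_comm T₁ T₂).le) hκ' hn'
    (fun x hx => by rw [eκ' x (hQR' x hx)]; exact hst x hx) (by rw [hull_comm]; exact hk)
    (fun x hx => by rw [eκ' x (hQR' x hx), ek' x hx]) hk₂).congr fun x hx => ?_
  exact (eκ' x (hH.ge (Subgroup.mem_sup_right hx))).symm

/-- The normal family. -/
theorem fam_pair : NFam.Fam F (T₁ ⊔ T₂) p (members F T₁ T₂) (pairX F E₁ E₂) := by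
  have hc := h.toComm
  have hsc := hc.stronglyClosed_sup h.pgroup h.sat
  refine
    { sc := hsc
      sub := fun Q hQ => hQ.1
      centric := fun Q hQ => hQ.2 Q (isConj_refl (hQ.1.trans hsc.1))
      conj := fun Q hQ R hR => ⟨?_, fun R' hR' => hQ.2 R' (isConj_trans hR hR')⟩
      up := fun Q hQ R hQR hR => h.members_up hQ hQR hR
      top := ⟨le_rfl, fun R hR => ?_⟩
      le := fun Q hQ β hβ => ((h.mem_pairX hQ.1).mp hβ).1
      equiv := fun Q R f hf hi hQ β hβ => h.pairX_congr hf hi hQ.1 hβ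
      ind := fun Q hQ α hα => ?_
      syl := fun Q hQ hn => h.pairX_syl hQ hn
      res := fun Q R hQ hQR hR β hβ γ e => ?_
      ext := fun Q R hQ hQR hR β hβ hcop γ hγ e => ?_
      rad := fun Q hQT hn hQ => ?_ }
  · obtain ⟨f, hf, rfl⟩ := isConj_iff.mp hR
    exact IsMap.img_le_iff.mpr fun x hx => stronglyClosed_apply hsc hf hx (hQ.1 hx)
  · obtain ⟨f, hf, rfl⟩ := isConj_iff.mp hR
    haveI := finite_of_le hsc.1
    rw [img_eq_of_apply hf le_rfl fun x hx => stronglyClosed_apply hsc hf hx hx]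
    exact inf_le_left
  · obtain ⟨t, ht, et⟩ := mem_autInducedBy.mp hα
    haveI := finite_of_le (hQ.1.trans hsc.1)
    obtain ⟨a, ha, b, hb, rfl⟩ := hc.mem_sup.mp ht
    refine (h.mem_pairX hQ.1).mpr ⟨autInducedBy_le (hQ.1.trans hsc.1) (autInducedBy_mono hsc.1 hα),
      _, isMap_conj hc.hull_le_S (hsc.1 ht), fun x hx => ?_, ?_, ?_⟩
    · rw [autFun_apply_mem _ hx]
      exact (et ⟨x, hx⟩).symm
    · refine (isMap_conj (F := E₁) prj_le ha).congr fun x hx => ?_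
      rw [show a * b * x * (a * b)⁻¹ = a * (b * x * b⁻¹) * a⁻¹ by group,
        show b * x * b⁻¹ = x by rw [← h.commute x (prj_le hx) b hb, mul_inv_cancel_right]]
    · refine (isMap_conj (F := E₂) prj_le hb).congr fun x hx => ?_
      rw [h.commute a ha b hb, show b * a * x * (b * a)⁻¹ = b * (a * x * a⁻¹) * b⁻¹ by group,
        show a * x * a⁻¹ = x by rw [h.commute a ha x (prj_le hx), mul_inv_cancel_right]]
  · obtain ⟨hβF, k, hk, ek, hk₁, hk₂⟩ := (h.mem_pairX hR).mp hβ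
    have hQS := hQ.1.trans hsc.1
    refine (h.mem_pairX hQ.1).mpr ⟨(isMap_autFun hQS).mp
      ((((isMap_autFun (hR.trans hsc.1)).mpr hβF).mono hQR).congr e), k, hk.mono (hull_mono hQR),
      fun x hx => (ek x (hQR hx)).trans (e x hx).symm, hk₁.mono (prj_mono hQR),
      hk₂.mono (prj_mono hQR)⟩
  · exact h.pairX_ext hQ hQR hR hβ hcop hγ e
  · have hnm : ¬ ∀ R, F.IsConj Q R → centralizerIn (T₁ ⊔ T₂) R ≤ R := fun hh => hQ ⟨hQT, hh⟩
    push Not at hnm
    obtain ⟨R, hR, hCR⟩ := hnm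
    obtain ⟨c, hcC, hcR⟩ := SetLike.not_le_iff_exists.mp hCR
    haveI := finite_of_le hn.1
    obtain ⟨-, hfa, hrec⟩ := fullyNormalized_props h.pgroup h.sat hn
    obtain ⟨r, hr, hri⟩ := isConj_iff.mp (isConj_symm hR)
    obtain ⟨-, -, k, hk, hki, -, -⟩ := exists_map_normalizer h.pgroup hfa hrec hr hri
    have hcC' := Fusion.mem_centralizerIn.mp hcC
    have hcS : c ∈ centralizerIn S R := Fusion.mem_centralizerIn.mpr ⟨hsc.1 hcC.1, hcC'.2⟩
    have hcN : c ∈ normalizerIn S R := centralizerIn_le_normalizerIn R hcS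
    have hkQ : k c ∈ centralizerIn S Q := by
      have := hk.mem_centralizerIn (le_normalizerIn (isConj_le hR).2) hcN hcS
      rwa [hki] at this
    have hgn : k c ∈ Subgroup.normalizer (Q : Set Ω) := (centralizerIn_le_normalizerIn Q hkQ).2
    refine ⟨k c, ⟨stronglyClosed_apply hsc hk hcN hcC.1, hgn⟩, fun hmem => ?_, hgn, ?_⟩
    · rw [← hki] at hmem
      obtain ⟨x, hx, e⟩ := (hk.mono (le_normalizerIn (isConj_le hR).2)).mem_img.mp hmem
      exact hcR (hk.injOn (le_normalizerIn (isConj_le hR).2 hx) hcN e ▸ hx)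
    · rw [show conjAut Q (k c) hgn = 1 from NFam.eq_of_autFun fun x hx => by
        rw [autFun_apply_mem _ hx, conjAut_apply, autFun_one hx,
          (Fusion.mem_centralizerIn.mp hkQ).2 x hx]]
      exact one_mem _

end Pair

end Cfsg.Lib.Fusion.CPair
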