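import Cfsg.Agent.Fusion.Criterion.Site
import Cfsg.Agent.Fusion.NormalCriteria
import Cfsg.Agent.Fusion.NormalFamily.Frattini

/-!
A pair of commuting strongly closed subgroups: every map on a subgroup of their product extends to
the product of its projections.
-/

set_option autoImplicit false
set_option linter.unusedSectionVars false
set_option linter.style.haveILetI false

namespace Cfsg.Lib.Fusion.CPair

open Cfsg Cfsg.FusionSystem Cfsg.Lib.Fusion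

universe u

variable {Ω : Type u} [Group Ω] {S T₁ T₂ : Subgroup Ω} {F : FusionSystem S} {p : ℕ}

/-- Two commuting strongly closed subgroups. -/
structure Comm (F : FusionSystem S) (T₁ T₂ : Subgroup Ω) : Prop where
  sc₁ : F.StronglyClosed T₁
  sc₂ : F.StronglyClosed T₂
  comm : ∀ a ∈ T₁, ∀ b ∈ T₂, a * b = b * a

theorem Comm.symm (h : Comm F T₁ T₂) : Comm F T₂ T₁ :=
  ⟨h.sc₂, h.sc₁, fun a ha b hb => (h.comm b hb a ha).symm⟩

/-- The projection of `Q` to the first factor. -/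
def prj (T₁ T₂ Q : Subgroup Ω) : Subgroup Ω := (Q ⊔ T₂) ⊓ T₁

/-- The product of the projections. -/
def hull (T₁ T₂ Q : Subgroup Ω) : Subgroup Ω := prj T₁ T₂ Q ⊔ prj T₂ T₁ Q

theorem prj_le {Q : Subgroup Ω} : prj T₁ T₂ Q ≤ T₁ := inf_le_right

theorem prj_mono {P Q : Subgroup Ω} (h : P ≤ Q) : prj T₁ T₂ P ≤ prj T₁ T₂ Q :=
  inf_le_inf_right T₁ (sup_le_sup_right h T₂)

theorem hull_mono {P Q : Subgroup Ω} (h : P ≤ Q) : hull T₁ T₂ P ≤ hull T₁ T₂ Q :=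
  sup_le_sup (prj_mono h) (prj_mono h)

theorem inf_le_prj {Q : Subgroup Ω} : T₁ ⊓ T₂ ≤ prj T₁ T₂ Q :=
  le_inf (inf_le_right.trans le_sup_right) inf_le_left

theorem hull_le {Q : Subgroup Ω} : hull T₁ T₂ Q ≤ T₁ ⊔ T₂ :=
  sup_le_sup prj_le prj_le

theorem hull_comm {Q : Subgroup Ω} : hull T₂ T₁ Q = hull T₁ T₂ Q := sup_comm _ _

/-- Elements of a product of commuting subgroups. -/
theorem mem_sup_of_comm {A B : Subgroup Ω} (hc : ∀ a ∈ A, ∀ b ∈ B, a * b = b * a) {x : Ω} :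
    x ∈ A ⊔ B ↔ ∃ a ∈ A, ∃ b ∈ B, a * b = x := by
  refine ⟨fun hx => ?_, fun ⟨a, ha, b, hb, e⟩ =>
    e ▸ Subgroup.mul_mem _ (Subgroup.mem_sup_left ha) (Subgroup.mem_sup_right hb)⟩
  let M : Subgroup Ω :=
    { carrier := {x | ∃ a ∈ A, ∃ b ∈ B, a * b = x}
      one_mem' := ⟨1, A.one_mem, 1, B.one_mem, mul_one 1⟩
      mul_mem' := by
        rintro _ _ ⟨a, ha, b, hb, rfl⟩ ⟨a', ha', b', hb', rfl⟩
        refine ⟨a * a', A.mul_mem ha ha', b * b', B.mul_mem hb hb', ?_⟩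
        rw [mul_assoc, ← mul_assoc a' b b', hc a' ha' b hb]
        simp only [mul_assoc]
      inv_mem' := by
        rintro _ ⟨a, ha, b, hb, rfl⟩
        refine ⟨a⁻¹, A.inv_mem ha, b⁻¹, B.inv_mem hb, ?_⟩
        rw [mul_inv_rev, hc a⁻¹ (A.inv_mem ha) b⁻¹ (B.inv_mem hb)] }
  have hle : A ⊔ B ≤ M := sup_le (fun a ha => ⟨a, ha, 1, B.one_mem, mul_one a⟩)
    fun b hb => ⟨1, A.one_mem, b, hb, one_mul b⟩
  exact hle hx

namespace Comm

variable (h : Comm F T₁ T₂)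
include h

theorem le_S : T₁ ⊔ T₂ ≤ S := sup_le h.sc₁.1 h.sc₂.1

theorem mem_sup {x : Ω} : x ∈ T₁ ⊔ T₂ ↔ ∃ a ∈ T₁, ∃ b ∈ T₂, a * b = x := mem_sup_of_comm h.comm

theorem hull_le_S {Q : Subgroup Ω} : hull T₁ T₂ Q ≤ S := hull_le.trans h.le_S

theorem prj_le_S {Q : Subgroup Ω} : prj T₁ T₂ Q ≤ S := prj_le.trans h.sc₁.1

theorem conj_mem {t : Ω} (ht : t ∈ T₁ ⊔ T₂) {b : Ω} (hb : b ∈ T₂) : t * b * t⁻¹ ∈ T₂ := by
  obtain ⟨a', ha', b', hb', rfl⟩ := h.mem_sup.mp ht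
  have hz : b' * b * b'⁻¹ ∈ T₂ := T₂.mul_mem (T₂.mul_mem hb' hb) (T₂.inv_mem hb')
  rw [show a' * b' * b * (a' * b')⁻¹ = a' * (b' * b * b'⁻¹) * a'⁻¹ by group, h.comm a' ha' _ hz,
    mul_inv_cancel_right]
  exact hz

theorem mem_sup_T₂ {Q : Subgroup Ω} (hQ : Q ≤ T₁ ⊔ T₂) {x : Ω} :
    x ∈ Q ⊔ T₂ ↔ ∃ q ∈ Q, ∃ b ∈ T₂, q * b = x := by
  refine ⟨fun hx => ?_, fun ⟨q, hq, b, hb, e⟩ =>
    e ▸ Subgroup.mul_mem _ (Subgroup.mem_sup_left hq) (Subgroup.mem_sup_right hb)⟩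
  let M : Subgroup Ω :=
    { carrier := {x | ∃ q ∈ Q, ∃ b ∈ T₂, q * b = x}
      one_mem' := ⟨1, Q.one_mem, 1, T₂.one_mem, mul_one 1⟩
      mul_mem' := by
        rintro _ _ ⟨a, ha, b, hb, rfl⟩ ⟨a', ha', b', hb', rfl⟩
        refine ⟨a * a', Q.mul_mem ha ha', a'⁻¹ * b * a' * b', T₂.mul_mem ?_ hb', by group⟩
        simpa using h.conj_mem (Subgroup.inv_mem _ (hQ ha')) hb
      inv_mem' := by
        rintro _ ⟨a, ha, b, hb, rfl⟩
        exact ⟨a⁻¹, Q.inv_mem ha, a * b⁻¹ * a⁻¹, h.conj_mem (hQ ha) (T₂.inv_mem hb), by group⟩ }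
  exact (sup_le (fun a ha => ⟨a, ha, 1, T₂.one_mem, mul_one a⟩)
    fun b hb => ⟨1, Q.one_mem, b, hb, one_mul b⟩ : Q ⊔ T₂ ≤ M) hx

theorem mem_prj {Q : Subgroup Ω} (hQ : Q ≤ T₁ ⊔ T₂) {a : Ω} :
    a ∈ prj T₁ T₂ Q ↔ a ∈ T₁ ∧ ∃ b ∈ T₂, a * b ∈ Q := by
  constructor
  · rintro ⟨hx, ha⟩
    obtain ⟨q, hq, b, hb, e⟩ := (h.mem_sup_T₂ hQ).mp hx
    exact ⟨ha, b⁻¹, T₂.inv_mem hb, by rwa [← e, mul_inv_cancel_right]⟩
  · rintro ⟨ha, b, hb, hab⟩
    refine ⟨?_, ha⟩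
    rw [← mul_inv_cancel_right a b]
    exact Subgroup.mul_mem _ (Subgroup.mem_sup_left hab)
      (Subgroup.mem_sup_right (T₂.inv_mem hb))

/-- Every element is a product of elements of the projections. -/
theorem decomp {Q : Subgroup Ω} (hQ : Q ≤ T₁ ⊔ T₂) {x : Ω} (hx : x ∈ Q) :
    ∃ a ∈ prj T₁ T₂ Q, ∃ b ∈ prj T₂ T₁ Q, a * b = x := by
  obtain ⟨a, ha, b, hb, e⟩ := h.mem_sup.mp (hQ hx)
  refine ⟨a, (h.mem_prj hQ).mpr ⟨ha, b, hb, e ▸ hx⟩, b,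
    (h.symm.mem_prj (hQ.trans (sup_comm T₁ T₂).le)).mpr ⟨hb, a, ha, ?_⟩, e⟩
  rw [← h.comm a ha b hb, e]
  exact hx

theorem le_hull {Q : Subgroup Ω} (hQ : Q ≤ T₁ ⊔ T₂) : Q ≤ hull T₁ T₂ Q := fun x hx => by
  obtain ⟨a, ha, b, hb, rfl⟩ := h.decomp hQ hx
  exact Subgroup.mul_mem _ (Subgroup.mem_sup_left ha) (Subgroup.mem_sup_right hb)

theorem hull_decomp {Q : Subgroup Ω} {x : Ω} (hx : x ∈ hull T₁ T₂ Q) :
    ∃ a ∈ prj T₁ T₂ Q, ∃ b ∈ prj T₂ T₁ Q, a * b = x :=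
  (mem_sup_of_comm fun a ha b hb => h.comm a (prj_le ha) b (prj_le hb)).mp hx

theorem prj_hull {Q : Subgroup Ω} (hQ : Q ≤ T₁ ⊔ T₂) : prj T₁ T₂ (hull T₁ T₂ Q) = prj T₁ T₂ Q := by
  refine le_antisymm (inf_le_inf_right T₁ ?_) (prj_mono (h.le_hull hQ))
  exact sup_le (sup_le inf_le_left (prj_le.trans le_sup_right)) le_sup_right

theorem prj_hull' {Q : Subgroup Ω} (hQ : Q ≤ T₁ ⊔ T₂) :
    prj T₂ T₁ (hull T₁ T₂ Q) = prj T₂ T₁ Q := by
  have h1 := h.symm.prj_hull (hQ.trans (sup_comm T₁ T₂).le)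
  rwa [hull_comm] at h1

theorem hull_hull {Q : Subgroup Ω} (hQ : Q ≤ T₁ ⊔ T₂) :
    hull T₁ T₂ (hull T₁ T₂ Q) = hull T₁ T₂ Q := by
  show prj T₁ T₂ (hull T₁ T₂ Q) ⊔ prj T₂ T₁ (hull T₁ T₂ Q) = _
  rw [h.prj_hull hQ, h.prj_hull' hQ]
  rfl

theorem inf_central {z a : Ω} (hz : z ∈ T₁ ⊓ T₂) (ha : a ∈ T₁ ⊔ T₂) : a * z = z * a := by
  obtain ⟨x, hx, y, hy, rfl⟩ := h.mem_sup.mp ha
  rw [mul_assoc, ← h.comm z hz.1 y hy, ← mul_assoc, h.comm x hx z hz.2, mul_assoc]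

variable [Finite S]

theorem apply_mem {P : Subgroup Ω} {f : Ω → Ω} (hf : IsMap F P f) {x : Ω} (hx : x ∈ P)
    (hxT : x ∈ T₁ ⊔ T₂) (hP : hull T₁ T₂ (Subgroup.zpowers x) ≤ P) : f x ∈ T₁ ⊔ T₂ := by
  obtain ⟨a, ha, b, hb, rfl⟩ := h.decomp (Subgroup.zpowers_le.mpr hxT) (Subgroup.mem_zpowers x)
  rw [hf.map_mul (hP (Subgroup.mem_sup_left ha)) (hP (Subgroup.mem_sup_right hb))]
  exact Subgroup.mul_mem _ (Subgroup.mem_sup_left (stronglyClosed_apply h.sc₁ hf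
    (hP (Subgroup.mem_sup_left ha)) (prj_le ha))) (Subgroup.mem_sup_right
    (stronglyClosed_apply h.sc₂ hf (hP (Subgroup.mem_sup_right hb)) (prj_le hb)))

/-- An extension to the hull maps the projection onto the projection of the image. -/
theorem img_prj {Q : Subgroup Ω} (hQ : Q ≤ T₁ ⊔ T₂) {k : Ω → Ω}
    (hk : IsMap F (hull T₁ T₂ Q) k) :
    img Q k ≤ T₁ ⊔ T₂ ∧ img (prj T₁ T₂ Q) k = prj T₁ T₂ (img Q k) := by
  have hQH := h.le_hull hQ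
  have hl : ∀ {a : Ω}, a ∈ prj T₁ T₂ Q → a ∈ hull T₁ T₂ Q := fun ha => Subgroup.mem_sup_left ha
  have hr : ∀ {b : Ω}, b ∈ prj T₂ T₁ Q → b ∈ hull T₁ T₂ Q := fun hb => Subgroup.mem_sup_right hb
  have hsplit : ∀ x ∈ Q, ∃ a ∈ prj T₁ T₂ Q, ∃ b ∈ prj T₂ T₁ Q, k a * k b = k x := fun x hx => by
    obtain ⟨a, ha, b, hb, rfl⟩ := h.decomp hQ hx
    exact ⟨a, ha, b, hb, (hk.map_mul (hl ha) (hr hb)).symm⟩
  have hka : ∀ {a : Ω}, a ∈ prj T₁ T₂ Q → k a ∈ T₁ := fun ha =>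
    stronglyClosed_apply h.sc₁ hk (hl ha) (prj_le ha)
  have hkb : ∀ {b : Ω}, b ∈ prj T₂ T₁ Q → k b ∈ T₂ := fun hb =>
    stronglyClosed_apply h.sc₂ hk (hr hb) (prj_le hb)
  have himg : img Q k ≤ T₁ ⊔ T₂ := IsMap.img_le_iff.mpr fun x hx => by
    obtain ⟨a, ha, b, hb, e⟩ := hsplit x hx
    rw [← e]
    exact Subgroup.mul_mem _ (Subgroup.mem_sup_left (hka ha)) (Subgroup.mem_sup_right (hkb hb))
  refine ⟨himg, le_antisymm (IsMap.img_le_iff.mpr fun a ha => ?_) fun c hc => ?_⟩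
  · obtain ⟨haT, b, hb, hab⟩ := (h.mem_prj hQ).mp ha
    have hbQ : b ∈ prj T₂ T₁ Q := (h.symm.mem_prj (hQ.trans (sup_comm T₁ T₂).le)).mpr
      ⟨hb, a, haT, h.comm a haT b hb ▸ hab⟩
    refine (h.mem_prj himg).mpr ⟨hka ha, k b, hkb hbQ, ?_⟩
    rw [← hk.map_mul (hl ha) (hr hbQ)]
    exact IsMap.apply_mem_img hab
  · obtain ⟨hcT, d, hd, hcd⟩ := (h.mem_prj himg).mp hc
    obtain ⟨x, hx, e⟩ := (hk.mono hQH).mem_img.mp hcd
    obtain ⟨a, ha, b, hb, eab⟩ := hsplit x hx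
    rw [e] at eab
    have hzc : (k a)⁻¹ * c = k b * d⁻¹ := by
      calc (k a)⁻¹ * c = (k a)⁻¹ * (c * d) * d⁻¹ := by group
        _ = (k a)⁻¹ * (k a * k b) * d⁻¹ := by rw [eab]
        _ = k b * d⁻¹ := by group
    have hz : (k a)⁻¹ * c ∈ T₁ ⊓ T₂ := ⟨T₁.mul_mem (T₁.inv_mem (hka ha)) hcT,
      hzc ▸ T₂.mul_mem (hkb hb) (T₂.inv_mem hd)⟩
    haveI : Finite (T₁ ⊓ T₂ : Subgroup Ω) :=
      Finite.of_injective _ (Subgroup.inclusion_injective (inf_le_left.trans h.sc₁.1 : T₁ ⊓ T₂ ≤ S))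
    have hkP := hk.mono (le_sup_left : prj T₁ T₂ Q ≤ hull T₁ T₂ Q)
    have hA : img (T₁ ⊓ T₂) k = T₁ ⊓ T₂ :=
      img_eq_of_apply hkP inf_le_prj fun z hz' =>
        ⟨stronglyClosed_apply h.sc₁ hkP (inf_le_prj hz') hz'.1,
          stronglyClosed_apply h.sc₂ hkP (inf_le_prj hz') hz'.2⟩
    have hzi : (k a)⁻¹ * c ∈ img (prj T₁ T₂ Q) k := img_mono inf_le_prj k (hA.ge hz)
    have := Subgroup.mul_mem _ (IsMap.apply_mem_img (f := k) ha) hzi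
    rwa [mul_inv_cancel_left] at this

theorem img_hull {Q : Subgroup Ω} (hQ : Q ≤ T₁ ⊔ T₂) {k : Ω → Ω}
    (hk : IsMap F (hull T₁ T₂ Q) k) : img (hull T₁ T₂ Q) k = hull T₁ T₂ (img Q k) := by
  show img (prj T₁ T₂ Q ⊔ prj T₂ T₁ Q) k = _
  rw [hk.img_sup, (h.img_prj hQ hk).2,
    (h.symm.img_prj (hQ.trans (sup_comm T₁ T₂).le) (by rw [hull_comm]; exact hk)).2]
  rfl

/-- The projections lie in centric radical subgroups. -/
theorem prj_le_radical [Fact p.Prime] (hS : IsPGroup p S) {R : Subgroup Ω} (hRc : F.IsCentric R)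
    (hRr : F.IsRadical p R) : prj T₁ T₂ (R ⊓ (T₁ ⊔ T₂)) ≤ R := by
  have hR := hRc.1
  haveI := finite_of_le hR
  set B := R ⊓ T₁
  set C := R ⊓ T₂
  have hmap : ∀ α ∈ F.autGroup R, IsMap F R (autFun α) := fun α hα => (isMap_autFun hR).mpr hα
  have hBst : ∀ α ∈ F.autGroup R, ∀ x ∈ B, autFun α x ∈ B := fun α hα x hx =>
    ⟨autFun_mem α hx.1, stronglyClosed_apply h.sc₁ (hmap α hα) hx.1 hx.2⟩
  have hCst : ∀ α ∈ F.autGroup R, ∀ x ∈ C, autFun α x ∈ C := fun α hα x hx =>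
    ⟨autFun_mem α hx.1, stronglyClosed_apply h.sc₂ (hmap α hα) hx.1 hx.2⟩
  let K : Subgroup (MulAut R) :=
    { carrier := {β | β ∈ F.autGroup R ∧ (∀ x ∈ R, x⁻¹ * autFun β x ∈ B) ∧
        (∀ x ∈ C, autFun β x = x) ∧ ∃ r ∈ R, ∀ x ∈ B, autFun β x = r * x * r⁻¹}
      one_mem' := ⟨one_mem _, fun x hx => by
          rw [autFun_one hx, inv_mul_cancel]; exact B.one_mem,
        fun x hx => autFun_one hx.1, 1, R.one_mem, fun x hx => by rw [autFun_one hx.1]; group⟩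
      mul_mem' := fun {a b} ha hb => by
        refine ⟨mul_mem ha.1 hb.1, fun x hx => ?_, fun x hx => ?_, ?_⟩
        · rw [autFun_mul _ _ hx]
          have := B.mul_mem (hb.2.1 x hx) (ha.2.1 _ (autFun_mem b hx))
          rwa [mul_assoc, mul_inv_cancel_left] at this
        · rw [autFun_mul _ _ hx.1, hb.2.2.1 x hx, ha.2.2.1 x hx]
        · obtain ⟨r, hr, er⟩ := ha.2.2.2
          obtain ⟨r', hr', er'⟩ := hb.2.2.2
          refine ⟨r * r', R.mul_mem hr hr', fun x hx => ?_⟩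
          rw [autFun_mul _ _ hx.1, er _ (hBst b hb.1 x hx), er' x hx]
          group
      inv_mem' := fun {a} ha => by
        have hi := Subgroup.inv_mem _ ha.1
        refine ⟨hi, fun x hx => ?_, fun x hx => ?_, ?_⟩
        · have := B.inv_mem (ha.2.1 _ (autFun_mem a⁻¹ hx))
          rwa [autFun_inv_apply a hx, mul_inv_rev, inv_inv] at this
        · conv_lhs => rw [← ha.2.2.1 x hx]
          exact autFun_inv_apply' a hx.1
        · obtain ⟨r, hr, er⟩ := ha.2.2.2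
          refine ⟨r⁻¹, R.inv_mem hr, fun x hx => ?_⟩
          have h1 := er _ (hBst _ hi x hx)
          rw [autFun_inv_apply a hx.1] at h1
          conv_rhs => rw [h1]
          group }
  have hKn : ∀ α ∈ F.autGroup R, ∀ β ∈ K, α * β * α⁻¹ ∈ K := fun α hα β hβ => by
    have hi := Subgroup.inv_mem _ hα
    have happ : ∀ x ∈ R, autFun (α * β * α⁻¹) x = autFun α (autFun β (autFun α⁻¹ x)) := fun x hx => by
      rw [autFun_mul _ _ hx, autFun_mul _ _ (autFun_mem _ hx)]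
    refine ⟨mul_mem (mul_mem hα hβ.1) hi, fun x hx => ?_, fun x hx => ?_, ?_⟩
    · have hy := autFun_mem α⁻¹ hx
      have hB := hBst α hα _ (hβ.2.1 _ hy)
      rw [(hmap α hα).map_mul (R.inv_mem hy) (autFun_mem β hy), (hmap α hα).map_inv hy,
        autFun_inv_apply α hx] at hB
      rwa [happ x hx]
    · rw [happ x hx.1, hβ.2.2.1 _ (hCst _ hi x hx), autFun_inv_apply α hx.1]
    · obtain ⟨r, hr, er⟩ := hβ.2.2.2
      refine ⟨autFun α r, autFun_mem α hr, fun x hx => ?_⟩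
      rw [happ x hx.1, er _ (hBst _ hi x hx), (hmap α hα).map_conj hr (autFun_mem _ hx.1),
        autFun_inv_apply α hx.1]
  -- the kernel of the restriction to `B` stabilizes a series
  have hKp : IsPGroup p K := fun β => by
    obtain ⟨hβF, hmod, -, r, hr, er⟩ := β.2
    obtain ⟨j, hj⟩ := NormCent.exists_pow_eq_one hS (hR hr)
    have hpowB : ∀ i : ℕ, ∀ x ∈ B,
        autFun ((β : MulAut R) ^ i) x = r ^ i * x * (r ^ i)⁻¹ := by
      intro i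
      induction i with
      | zero => intro x hx; rw [pow_zero, autFun_one hx.1]; group
      | succ i ih =>
        intro x hx
        have hm : r ^ i * x * (r ^ i)⁻¹ ∈ B := ih x hx ▸ hBst _ (pow_mem hβF i) x hx
        rw [pow_succ', autFun_mul _ _ hx.1, ih x hx, er _ hm, pow_succ']
        group
    set γ := β ^ p ^ j with hγdef
    obtain ⟨hγF, hγmod, -, -⟩ := γ.2
    have hγB : ∀ x ∈ B, autFun (γ : MulAut R) x = x := fun x hx => by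
      rw [hγdef, SubgroupClass.coe_pow, hpowB _ x hx, hj]
      group
    obtain ⟨m, hm⟩ := IsPGroup.iff_card.mp (hS.of_injective _ (Subgroup.inclusion_injective hR))
    refine ⟨j + m, Subtype.ext ?_⟩
    rw [SubgroupClass.coe_pow, Subgroup.coe_one, pow_add, pow_mul, ← SubgroupClass.coe_pow]
    refine NFam.eq_of_autFun fun x hx => ?_
    have hz := hγmod x hx
    set z := x⁻¹ * autFun (γ : MulAut R) x with hzdef
    have hpow : ∀ i : ℕ, autFun ((γ : MulAut R) ^ i) x = x * z ^ i := by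
      intro i
      induction i with
      | zero => rw [pow_zero, autFun_one hx, pow_zero, mul_one]
      | succ i ih =>
        rw [pow_succ', autFun_mul _ _ hx, ih, (hmap _ hγF).map_mul hx (R.pow_mem hz.1 i),
          (hmap _ hγF).map_pow hz.1, hγB z hz, pow_succ', ← mul_assoc]
        simp only [hzdef, mul_inv_cancel_left]
    have h2 : (⟨z, hz.1⟩ : R) ^ Nat.card R = 1 := pow_card_eq_one'
    rw [hpow, ← hm, show z ^ Nat.card R = 1 from congrArg Subtype.val h2, mul_one, autFun_one hx]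
  have hKI : K ≤ Inn R := fun β hβ => by
    have h1 := Criterion.le_opAut (F := F) (p := p) (K := K) (fun b (hb : b ∈ K) => hb.1) hKp hKn hβ
    rw [← hRr.2]
    exact h1
  intro a ha
  by_contra haR
  have hRT : R ⊓ (T₁ ⊔ T₂) ≤ T₁ ⊔ T₂ := inf_le_right
  set P₁ := prj T₁ T₂ (R ⊓ (T₁ ⊔ T₂))
  set M := R ⊔ P₁
  have hlt : R < M := lt_of_le_of_ne le_sup_left fun e => haR (e.symm ▸ Subgroup.mem_sup_right ha)
  obtain ⟨u, hu, huR⟩ := SetLike.exists_of_lt (lt_inf_normalizer hS hlt (sup_le hR h.prj_le_S))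
  have hnorm : R ≤ Subgroup.normalizer (P₁ : Set Ω) := fun r hr => by
    haveI := finite_of_le (h.prj_le_S (Q := R ⊓ (T₁ ⊔ T₂)))
    refine mem_normalizer_of_maps_finite fun x hx => ?_
    obtain ⟨hxT, b, hb, hxb⟩ := (h.mem_prj hRT).mp hx
    refine (h.mem_prj hRT).mpr ⟨conj_mem_of_mem_normalizer
      (normalizes_of_stronglyClosed h.sc₁ (hR hr)) hxT, r * b * r⁻¹,
      conj_mem_of_mem_normalizer (normalizes_of_stronglyClosed h.sc₂ (hR hr)) hb, ?_⟩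
    refine ⟨?_, Subgroup.mul_mem _ (Subgroup.mem_sup_left (conj_mem_of_mem_normalizer
      (normalizes_of_stronglyClosed h.sc₁ (hR hr)) hxT)) (Subgroup.mem_sup_right
      (conj_mem_of_mem_normalizer (normalizes_of_stronglyClosed h.sc₂ (hR hr)) hb))⟩
    rw [show r * x * r⁻¹ * (r * b * r⁻¹) = r * (x * b) * r⁻¹ by group]
    exact R.mul_mem (R.mul_mem hr hxb.1) (R.inv_mem hr)
  have hu1 : u ∈ ((R ⊔ P₁ : Subgroup Ω) : Set Ω) := hu.1
  rw [Subgroup.coe_mul_of_left_le_normalizer_right R P₁ hnorm] at hu1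
  obtain ⟨r, hr, q, hq, rfl⟩ := hu1
  have hqn : q ∈ Subgroup.normalizer (R : Set Ω) := by
    have := Subgroup.mul_mem _ (Subgroup.inv_mem _ (Subgroup.le_normalizer hr)) hu.2
    rwa [inv_mul_cancel_left] at this
  obtain ⟨hqT, b, hb, hqb⟩ := (h.mem_prj hRT).mp hq
  have hqS : q ∈ S := h.sc₁.1 hqT
  have hqK : conjAut R q hqn ∈ K := by
    refine ⟨autInducedBy_le hR (conjAut_mem_autInducedBy hqn hqS), fun x hx => ?_, fun x hx => ?_,
      q * b, hqb.1, fun x hx => ?_⟩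
    · rw [autFun_apply_mem _ hx, conjAut_apply]
      refine ⟨R.mul_mem (R.inv_mem hx) (conj_mem_of_mem_normalizer hqn hx), ?_⟩
      rw [show x⁻¹ * (q * x * q⁻¹) = x⁻¹ * q * x⁻¹⁻¹ * q⁻¹ by group]
      exact T₁.mul_mem (conj_mem_of_mem_normalizer
        (normalizes_of_stronglyClosed h.sc₁ (S.inv_mem (hR hx))) hqT) (T₁.inv_mem hqT)
    · rw [autFun_apply_mem _ hx.1, conjAut_apply, h.comm q hqT x hx.2, mul_inv_cancel_right]
    · rw [autFun_apply_mem _ hx.1, conjAut_apply]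
      show q * x * q⁻¹ = q * b * x * (q * b)⁻¹
      calc q * x * q⁻¹ = q * (x * b) * (q * b)⁻¹ := by group
        _ = q * (b * x) * (q * b)⁻¹ := by rw [h.comm x hx.2 b hb]
        _ = q * b * x * (q * b)⁻¹ := by group
  exact huR (R.mul_mem hr (mem_of_inn (hRc.2 R (isConj_refl hR)) hqS hqn (hKI hqK) hR))

/-- An automorphism of a subgroup containing the hull preserves the product. -/
theorem apply_mem_iff {R : Subgroup Ω} {f : Ω → Ω} (hf : IsMap F R f) (hfR : img R f = R)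
    (hR : hull T₁ T₂ (R ⊓ (T₁ ⊔ T₂)) ≤ R) {x : Ω} (hx : x ∈ R) :
    f x ∈ T₁ ⊔ T₂ ↔ x ∈ T₁ ⊔ T₂ := by
  have hfwd : ∀ {g : Ω → Ω}, IsMap F R g → ∀ y ∈ R, y ∈ T₁ ⊔ T₂ → g y ∈ T₁ ⊔ T₂ := fun hg y hy hyT =>
    h.apply_mem hg hy hyT ((hull_mono (Subgroup.zpowers_le.mpr (show y ∈ R ⊓ (T₁ ⊔ T₂) from ⟨hy, hyT⟩))).trans hR)
  obtain ⟨g, hg, -, hgl, -⟩ := hf.exists_inv
  rw [hfR] at hg
  refine ⟨fun hfx => ?_, hfwd hf x hx⟩
  rw [← hgl x hx]
  exact hfwd hg _ (hfR.le (IsMap.apply_mem_img hx)) hfx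

/-- Every map preserves the product and extends to hulls. -/
theorem ext_and_closed [Fact p.Prime] (hS : IsPGroup p S) (hF : F.IsSaturated p) {P : Subgroup Ω}
    {f : Ω → Ω} (hf : IsMap F P f) :
    (∀ x ∈ P, f x ∈ T₁ ⊔ T₂ ↔ x ∈ T₁ ⊔ T₂) ∧ ∀ Q, Q ≤ P → Q ≤ T₁ ⊔ T₂ →
      ∃ k, IsMap F (hull T₁ T₂ Q) k ∧ ∀ x ∈ Q, k x = f x := by
  let Φ : Subgroup Ω → (Ω → Ω) → Prop := fun P f =>
    (∀ x ∈ P, f x ∈ T₁ ⊔ T₂ ↔ x ∈ T₁ ⊔ T₂) ∧ ∀ Q, Q ≤ P → Q ≤ T₁ ⊔ T₂ →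
      ∃ k, IsMap F (hull T₁ T₂ Q) k ∧ ∀ x ∈ Q, k x = f x
  have hTn : ∀ g ∈ S, ∀ x ∈ T₁ ⊔ T₂, g * x * g⁻¹ ∈ T₁ ⊔ T₂ := fun g hg x hx => by
    obtain ⟨a, ha, b, hb, rfl⟩ := h.mem_sup.mp hx
    rw [show g * (a * b) * g⁻¹ = g * a * g⁻¹ * (g * b * g⁻¹) by group]
    exact Subgroup.mul_mem _ (Subgroup.mem_sup_left (conj_mem_of_mem_normalizer
      (normalizes_of_stronglyClosed h.sc₁ hg) ha)) (Subgroup.mem_sup_right
      (conj_mem_of_mem_normalizer (normalizes_of_stronglyClosed h.sc₂ hg) hb))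
  have hcls : IsMapClass F Φ :=
    { conj := fun P g _ hg => ⟨fun x _ => ⟨fun hx => by
          have := hTn g⁻¹ (S.inv_mem hg) _ hx
          rwa [show g⁻¹ * (g * x * g⁻¹) * g⁻¹⁻¹ = x by group] at this, hTn g hg x⟩,
        fun Q _ _ => ⟨_, isMap_conj h.hull_le_S hg, fun _ _ => rfl⟩⟩
      congr := fun P f f' _ e hΦ => ⟨fun x hx => e x hx ▸ hΦ.1 x hx, fun Q hQP hQT =>
        let ⟨k, hk, ek⟩ := hΦ.2 Q hQP hQT
        ⟨k, hk, fun x hx => (ek x hx).trans (e x (hQP hx)).symm⟩⟩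
      mono := fun P R f _ hR hΦ => ⟨fun x hx => hΦ.1 x (hR hx),
        fun Q hQR hQT => hΦ.2 Q (hQR.trans hR) hQT⟩
      comp := fun P R f g _ _ hfR h1 h2 => ⟨fun x hx => (h2.1 _ (hfR x hx)).trans (h1.1 x hx),
        fun Q hQP hQT => by
          obtain ⟨k, hk, ek⟩ := h1.2 Q hQP hQT
          obtain ⟨l, hl, el⟩ := h2.2 (img Q f) (IsMap.img_le_iff.mpr fun x hx => hfR x (hQP hx))
            (img_congr ek ▸ (h.img_prj hQT hk).1)
          have e : img (hull T₁ T₂ Q) k = hull T₁ T₂ (img Q f) := by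
            rw [h.img_hull hQT hk, img_congr ek]
          refine ⟨l ∘ k, hk.comp hl fun x hx => e ▸ IsMap.apply_mem_img hx, fun x hx => ?_⟩
          show l (k x) = g (f x)
          rw [ek x hx, el _ (IsMap.apply_mem_img hx)]⟩
      inv := fun P f g hf hg hl hΦ => by
        have hiff : ∀ y ∈ img P f, g y ∈ T₁ ⊔ T₂ ↔ y ∈ T₁ ⊔ T₂ := fun y hy => by
          obtain ⟨x, hx, rfl⟩ := hf.mem_img.mp hy
          rw [hl x hx]
          exact (hΦ.1 x hx).symm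
        refine ⟨hiff, fun Q hQP hQT => ?_⟩
        have hgQ : IsMap F Q g := hg.mono hQP
        have hQ₀P : img Q g ≤ P := IsMap.img_le_iff.mpr fun y hy => by
          obtain ⟨x, hx, rfl⟩ := hf.mem_img.mp (hQP hy)
          rwa [hl x hx]
        have hfgy : ∀ y ∈ Q, f (g y) = y := fun y hy => by
          obtain ⟨x, hx, rfl⟩ := hf.mem_img.mp (hQP hy)
          rw [hl x hx]
        have hQ₀T : img Q g ≤ T₁ ⊔ T₂ :=
          IsMap.img_le_iff.mpr fun y hy => (hiff y (hQP hy)).mpr (hQT hy)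
        obtain ⟨k, hk, ek⟩ := hΦ.2 _ hQ₀P hQ₀T
        obtain ⟨m, hm, -, hml, -⟩ := hk.exists_inv
        have e : img (hull T₁ T₂ (img Q g)) k = hull T₁ T₂ Q := by
          rw [h.img_hull hQ₀T hk, img_congr (f' := f) ek]
          congr 1
          exact le_antisymm (IsMap.img_le_iff.mpr fun x hx => by
              obtain ⟨y, hy, rfl⟩ := hgQ.mem_img.mp hx
              rwa [hfgy y hy]) fun y hy => hfgy y hy ▸ IsMap.apply_mem_img (IsMap.apply_mem_img hy)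
        refine ⟨m, e ▸ hm, fun y hy => ?_⟩
        conv_lhs => rw [← hfgy y hy, ← ek _ (IsMap.apply_mem_img hy)]
        exact hml _ (h.le_hull hQ₀T (IsMap.apply_mem_img hy)) }
  refine alperin_radical hS hF hcls (fun g hg => ⟨fun x hx => ?_, fun Q _ _ =>
    ⟨g, hg.mono h.hull_le_S, fun _ _ => rfl⟩⟩) (fun R _ _ hRc hRr _ α hα => ?_) hf
  · exact h.apply_mem_iff hg (Subgroup.eq_of_le_of_card_ge hg.img_le hg.card_img.ge)
      (hull_le.trans h.le_S) hx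
  · have hle : ∀ Q, Q ≤ R → Q ≤ T₁ ⊔ T₂ → hull T₁ T₂ Q ≤ R := fun Q hQR hQT => by
      refine sup_le ((prj_mono (le_inf hQR hQT)).trans (h.prj_le_radical hS hRc hRr))
        ((prj_mono (le_inf hQR hQT)).trans ?_)
      have := h.symm.prj_le_radical hS hRc hRr
      rwa [sup_comm T₂ T₁] at this
    haveI := finite_of_le hRc.1
    have hm := (isMap_autFun hRc.1).mpr hα
    exact ⟨fun x hx => h.apply_mem_iff hm (img_autFun α) (hle _ inf_le_left inf_le_right) hx,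
      fun Q hQR hQT => ⟨autFun α, hm.mono (hle Q hQR hQT), fun _ _ => rfl⟩⟩

theorem stronglyClosed_sup [Fact p.Prime] (hS : IsPGroup p S) (hF : F.IsSaturated p) :
    F.StronglyClosed (T₁ ⊔ T₂) :=
  stronglyClosed_of_apply h.le_S fun _ _ hf x hx hxT => ((h.ext_and_closed hS hF hf).1 x hx).mpr hxT

/-- Every map on a subgroup of the product extends to the hull. -/
theorem exists_ext [Fact p.Prime] (hS : IsPGroup p S) (hF : F.IsSaturated p) {Q : Subgroup Ω}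
    (hQ : Q ≤ T₁ ⊔ T₂) {f : Ω → Ω} (hf : IsMap F Q f) :
    ∃ k, IsMap F (hull T₁ T₂ Q) k ∧ ∀ x ∈ Q, k x = f x :=
  (h.ext_and_closed hS hF hf).2 Q le_rfl hQ

end Comm

end Cfsg.Lib.Fusion.CPair
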